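import Groth.Prelude.Def_W4bk4git07Quot
import Mathlib.AlgebraicGeometry.AffineScheme
import Mathlib.AlgebraicGeometry.Gluing

/-!
Invariant morphisms with closed images of closed invariant sets and the right functions are categorical quotients.
-/

set_option autoImplicit false

universe u

open CategoryTheory CategoryTheory.Limits MonoidalCategory CartesianMonoidalCategory MonObj AlgebraicGeometry

namespace Groth.Agent.H60.GitQuot

noncomputable section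

theorem appLE_congr {W W' : Scheme.{u}} {f g : W' ⟶ W} (h : f = g) (U : W.Opens) (V : W'.Opens) (e : V ≤ f ⁻¹ᵁ U)
    (e' : V ≤ g ⁻¹ᵁ U) : f.appLE U V e = g.appLE U V e' := by
  subst h; rfl

/-- The restriction of sections to an open subscheme. -/
def res {W : Scheme.{u}} (U : W.Opens) (s : Γ(W, U)) : Γ(U.toScheme, ⊤) :=
  U.ι.appLE U ⊤ U.ι_preimage_self.ge s

theorem res_bijective {W : Scheme.{u}} (U : W.Opens) : Function.Bijective (res U) :=
  ConcreteCategory.bijective_of_isIso (U.ι.appLE U ⊤ U.ι_preimage_self.ge)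

theorem appTop_res {W Z : Scheme.{u}} {U : W.Opens} {V : Z.Opens} (ψ : W ⟶ Z) (q : U.toScheme ⟶ V.toScheme)
    (hq : q ≫ V.ι = U.ι ≫ ψ) (e : U ≤ ψ ⁻¹ᵁ V) (s : Γ(Z, V)) : q.appTop (res V s) = res U (ψ.appLE V U e s) := by
  have h : V.ι.appLE V ⊤ V.ι_preimage_self.ge ≫ q.appTop =
      ψ.appLE V U e ≫ U.ι.appLE U ⊤ U.ι_preimage_self.ge := by
    rw [show q.appTop = q.appLE ⊤ ⊤ le_rfl from q.app_eq_appLE, Scheme.Hom.appLE_comp_appLE,
      Scheme.Hom.appLE_comp_appLE]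
    exact appLE_congr hq _ _ _ _
  exact congrArg (fun m => m.hom s) h

variable {X Y : Scheme.{u}} {φ : X ⟶ Y}

theorem app_injective_restrict (hinj : ∀ U : Y.Opens, Function.Injective (φ.app U)) (U : Y.Opens) :
    Function.Injective (φ ∣_ U).appTop := by
  intro s t h
  obtain ⟨s, rfl⟩ := (res_bijective U).2 s
  obtain ⟨t, rfl⟩ := (res_bijective U).2 t
  rw [appTop_res φ _ (morphismRestrict_ι φ U) le_rfl, appTop_res φ _ (morphismRestrict_ι φ U) le_rfl,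
    ← φ.app_eq_appLE] at h
  exact congrArg _ (hinj U ((res_bijective _).1 h))

/-- A surjection with injective sections is cancellable over every open. -/
theorem hom_ext (hs : Function.Surjective φ.base) (hinj : ∀ U : Y.Opens, Function.Injective (φ.app U))
    (O : Y.Opens) {Z : Scheme.{u}} {χ χ' : O.toScheme ⟶ Z} (h : (φ ∣_ O) ≫ χ = (φ ∣_ O) ≫ χ') : χ = χ' := by
  have hbase : ∀ o, χ o = χ' o := fun o => by
    obtain ⟨x, hx⟩ := hs o.1
    have hxO : x ∈ φ ⁻¹ᵁ O := by show φ x ∈ O; exact hx.symm ▸ o.2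
    have ho : (φ ∣_ O) ⟨x, hxO⟩ = o := Subtype.ext (by
      show O.ι ((φ ∣_ O) ⟨x, hxO⟩) = _
      rw [← Scheme.Hom.comp_apply, morphismRestrict_ι, Scheme.Hom.comp_apply]
      exact hx)
    rw [← ho, ← Scheme.Hom.comp_apply, h, Scheme.Hom.comp_apply]
  refine Scheme.hom_ext_of_forall χ χ' fun o => ?_
  obtain ⟨C, v, hv, hov, -⟩ :=
    AlgebraicGeometry.Scheme.exists_affine_mem_range_and_range_subset (U := (⊤ : Z.Opens)) (x := χ o) trivial
  haveI := hv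
  let P : O.toScheme.Opens := χ ⁻¹ᵁ v.opensRange
  refine ⟨P, hov, ?_⟩
  let P₀ : Y.Opens := O.ι ''ᵁ P
  have hP : P₀ ≤ O := O.ι_image_le P
  have h1 : Set.range (Y.homOfLE hP ≫ χ) ⊆ Set.range v := by
    rintro _ ⟨⟨r, hr⟩, rfl⟩
    obtain ⟨r', hr', hrr'⟩ := hr
    have : Y.homOfLE hP ⟨r, ⟨r', hr', hrr'⟩⟩ = r' := Subtype.ext (by simp; exact hrr'.symm)
    rw [Scheme.Hom.comp_apply, this]
    exact hr'
  have h2 : Set.range (Y.homOfLE hP ≫ χ') ⊆ Set.range v := by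
    rintro _ ⟨r, rfl⟩
    rw [Scheme.Hom.comp_apply, ← hbase, ← Scheme.Hom.comp_apply]
    exact h1 ⟨r, rfl⟩
  have key : Y.homOfLE hP ≫ χ = Y.homOfLE hP ≫ χ' := by
    rw [← IsOpenImmersion.lift_fac v (Y.homOfLE hP ≫ χ) h1, ← IsOpenImmersion.lift_fac v (Y.homOfLE hP ≫ χ') h2]
    congr 1
    refine ext_of_isAffine ?_
    refine CommRingCat.hom_ext (RingHom.ext fun r => app_injective_restrict hinj P₀ ?_)
    have hmap : φ ⁻¹ᵁ P₀ ≤ φ ⁻¹ᵁ O := φ.preimage_mono hP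
    have hsq : (φ ∣_ P₀) ≫ Y.homOfLE hP = X.homOfLE hmap ≫ (φ ∣_ O) := by
      rw [← cancel_mono O.ι]
      simp
    have e : (φ ∣_ P₀) ≫ IsOpenImmersion.lift v (Y.homOfLE hP ≫ χ) h1 =
        (φ ∣_ P₀) ≫ IsOpenImmersion.lift v (Y.homOfLE hP ≫ χ') h2 := by
      rw [← cancel_mono v, Category.assoc, Category.assoc, IsOpenImmersion.lift_fac, IsOpenImmersion.lift_fac,
        reassoc_of% hsq, reassoc_of% hsq, h]
    have := congrArg (fun m => Scheme.Hom.appTop m r) e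
    simpa only [Scheme.Hom.comp_appTop, CommRingCat.comp_apply] using this
  have e' : P.ι = (O.ι.isoImage P).hom ≫ Y.homOfLE hP := by
    rw [← cancel_mono O.ι]
    simp [P₀]
  rw [e']
  simp only [Category.assoc, key]

theorem hom_ext_top (hs : Function.Surjective φ.base) (hinj : ∀ U : Y.Opens, Function.Injective (φ.app U))
    {Z : Scheme.{u}} {χ χ' : Y ⟶ Z} (h : φ ≫ χ = φ ≫ χ') : χ = χ' := by
  have e : (φ ∣_ ⊤) ≫ (⊤ : Y.Opens).ι = (φ ⁻¹ᵁ ⊤).ι ≫ φ := morphismRestrict_ι φ ⊤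
  haveI : IsIso (⊤ : Y.Opens).ι := inferInstanceAs (IsIso Y.topIso.hom)
  rw [← cancel_epi (⊤ : Y.Opens).ι]
  exact hom_ext hs hinj ⊤ (by rw [reassoc_of% e, reassoc_of% e, h])

variable {GX : Scheme.{u}} (σ p : GX ⟶ X)

/-- An invariant closed set. -/
def Inv (W : Set X) : Prop := σ.base '' (p.base ⁻¹' W) ⊆ W

variable {σ p}

theorem isQuotientMap (hi : σ ≫ φ = p ≫ φ)
    (hclosed : ∀ W : Set X, IsClosed W → Inv σ p W → IsClosed (φ.base '' W))
    (hs : Function.Surjective φ.base) : Topology.IsQuotientMap φ.base := by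
  refine Topology.isQuotientMap_iff_isClosed.2 ⟨hs, fun W => ⟨fun h => h.preimage φ.continuous, fun h => ?_⟩⟩
  rw [← hs.image_preimage W]
  refine hclosed _ h ?_
  rintro _ ⟨z, hz, rfl⟩
  show φ (σ z) ∈ W
  rw [← Scheme.Hom.comp_apply, hi, Scheme.Hom.comp_apply]
  exact hz

theorem surjective
    (hinter : ∀ (J : Type u) (W : J → Set X), (∀ i, IsClosed (W i) ∧ Inv σ p (W i)) →
      φ.base '' (⋂ i, W i) = ⋂ i, φ.base '' W i) : Function.Surjective φ.base := fun y => by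
  have h := hinter PEmpty (fun i => i.elim) (fun i => i.elim)
  rw [Set.iInter_of_empty, Set.iInter_of_empty] at h
  obtain ⟨x, -, hx⟩ : y ∈ φ.base '' Set.univ := by rw [h]; trivial
  exact ⟨x, hx⟩

/-- Invariant morphisms descend. -/
theorem existsUnique_desc
    (hinj : ∀ U : Y.Opens, Function.Injective (φ.app U))
    (hran : ∀ (U : Y.Opens) (f : Γ(X, φ ⁻¹ᵁ U)),
      σ.appLE (φ ⁻¹ᵁ U) (σ ⁻¹ᵁ (φ ⁻¹ᵁ U) ⊓ p ⁻¹ᵁ (φ ⁻¹ᵁ U)) inf_le_left f =
        p.appLE (φ ⁻¹ᵁ U) (σ ⁻¹ᵁ (φ ⁻¹ᵁ U) ⊓ p ⁻¹ᵁ (φ ⁻¹ᵁ U)) inf_le_right f → f ∈ Set.range (φ.app U))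
    (hclosed : ∀ W : Set X, IsClosed W → Inv σ p W → IsClosed (φ.base '' W))
    (hinter : ∀ (J : Type u) (W : J → Set X), (∀ i, IsClosed (W i) ∧ Inv σ p (W i)) →
      φ.base '' (⋂ i, W i) = ⋂ i, φ.base '' W i)
    {Z : Scheme.{u}} (ψ : X ⟶ Z) (hψ : σ ≫ ψ = p ≫ ψ) : ∃! χ : Y ⟶ Z, φ ≫ χ = ψ := by
  have hs := surjective hinter
  let W : Z.affineOpens → Set X := fun V => (ψ.base ⁻¹' (V.1 : Set Z))ᶜ
  have hW : ∀ V, IsClosed (W V) ∧ Inv σ p (W V) := fun V => ⟨(V.1.isOpen.preimage ψ.continuous).isClosed_compl, by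
    rintro _ ⟨z, hz, rfl⟩ h
    refine hz ?_
    show ψ (p z) ∈ V.1
    rw [← Scheme.Hom.comp_apply, ← hψ, Scheme.Hom.comp_apply]
    exact h⟩
  have hloc : ∀ y : Y, ∃ (U : Y.Opens) (χ : U.toScheme ⟶ Z), y ∈ U ∧ (φ ∣_ U) ≫ χ = (φ ⁻¹ᵁ U).ι ≫ ψ := by
    intro y
    obtain ⟨V, hV⟩ : ∃ V, y ∉ φ.base '' W V := by
      by_contra hcon
      push Not at hcon
      have h := hinter _ W hW
      obtain ⟨x, hx, -⟩ : y ∈ φ.base '' ⋂ V, W V := by rw [h]; exact Set.mem_iInter.2 hcon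
      obtain ⟨C, v, hv, hmem, -⟩ := AlgebraicGeometry.Scheme.exists_affine_mem_range_and_range_subset
        (U := (⊤ : Z.Opens)) (x := ψ x) trivial
      haveI := hv
      exact Set.mem_iInter.1 hx ⟨v.opensRange, isAffineOpen_opensRange v⟩ hmem
    let U : Y.Opens := ⟨_, (hclosed _ (hW V).1 (hW V).2).isOpen_compl⟩
    have hle : φ ⁻¹ᵁ U ≤ ψ ⁻¹ᵁ V.1 := fun x hx => by
      by_contra h
      exact hx ⟨x, h, rfl⟩
    let q : (φ ⁻¹ᵁ U).toScheme ⟶ V.1.toScheme := ψ.resLE V.1 (φ ⁻¹ᵁ U) hle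
    have hq : q ≫ V.1.ι = (φ ⁻¹ᵁ U).ι ≫ ψ := Scheme.Hom.resLE_comp_ι _ _
    have hmem : ∀ r, q.appTop r ∈ Set.range (φ ∣_ U).appTop := fun r => by
      obtain ⟨r, rfl⟩ := (res_bijective V.1).2 r
      rw [appTop_res ψ q hq hle]
      obtain ⟨t, ht⟩ := hran U (ψ.appLE V.1 (φ ⁻¹ᵁ U) hle r) (by
        rw [← CommRingCat.comp_apply, ← CommRingCat.comp_apply, Scheme.Hom.appLE_comp_appLE,
          Scheme.Hom.appLE_comp_appLE]
        exact RingHom.congr_fun (congrArg CommRingCat.Hom.hom (appLE_congr hψ V.1 (σ ⁻¹ᵁ (φ ⁻¹ᵁ U) ⊓ p ⁻¹ᵁ (φ ⁻¹ᵁ U)) _ _)) r)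
      refine ⟨res U t, ?_⟩
      rw [appTop_res φ _ (morphismRestrict_ι φ U) le_rfl, ← φ.app_eq_appLE, ht]
    choose g hg using hmem
    have hi := app_injective_restrict hinj U
    let l : Γ(V.1.toScheme, ⊤) ⟶ Γ(U.toScheme, ⊤) := CommRingCat.ofHom
      { toFun := g
        map_one' := hi ((hg 1).trans ((map_one q.appTop.hom).trans (map_one (φ ∣_ U).appTop.hom).symm))
        map_mul' := fun a b => hi ((hg (a * b)).trans ((map_mul q.appTop.hom a b).trans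
          ((congrArg₂ (· * ·) (hg a).symm (hg b).symm).trans (map_mul (φ ∣_ U).appTop.hom _ _).symm)))
        map_zero' := hi ((hg 0).trans ((map_zero q.appTop.hom).trans (map_zero (φ ∣_ U).appTop.hom).symm))
        map_add' := fun a b => hi ((hg (a + b)).trans ((map_add q.appTop.hom a b).trans
          ((congrArg₂ (· + ·) (hg a).symm (hg b).symm).trans (map_add (φ ∣_ U).appTop.hom _ _).symm))) }
    haveI : IsAffine V.1.toScheme := V.2
    let χ₀ : U.toScheme ⟶ V.1.toScheme := U.toScheme.toSpecΓ ≫ Spec.map l ≫ V.1.toScheme.isoSpec.inv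
    have hχ₀ : (φ ∣_ U) ≫ χ₀ = q := by
      rw [← cancel_mono V.1.toScheme.isoSpec.hom]
      simp only [χ₀, Category.assoc, Iso.inv_hom_id, Category.comp_id]
      rw [Scheme.toSpecΓ_naturality_assoc, Scheme.isoSpec_hom, Scheme.toSpecΓ_naturality, ← Spec.map_comp]
      congr 2
      exact CommRingCat.hom_ext (RingHom.ext hg)
    exact ⟨U, χ₀ ≫ V.1.ι, hV, by rw [reassoc_of% hχ₀, hq]⟩
  choose U χ hy hχ using hloc
  have hU : ⨆ y, U y = ⊤ := eq_top_iff.2 fun y _ => TopologicalSpace.Opens.mem_iSup.2 ⟨y, hy y⟩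
  let 𝒰 : Y.OpenCover := Y.openCoverOfIsOpenCover U hU
  have hcompat : ∀ y y' : Y, pullback.fst (U y).ι (U y').ι ≫ χ y = pullback.snd (U y).ι (U y').ι ≫ χ y' := by
    intro y y'
    let N : Y.Opens := U y ⊓ U y'
    have hN : Y.homOfLE (inf_le_left : N ≤ U y) ≫ χ y = Y.homOfLE (inf_le_right : N ≤ U y') ≫ χ y' := by
      refine hom_ext hs hinj N ?_
      have a1 : (φ ∣_ N) ≫ Y.homOfLE (inf_le_left : N ≤ U y) =
          X.homOfLE (φ.preimage_mono inf_le_left) ≫ (φ ∣_ U y) := by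
        rw [← cancel_mono (U y).ι]; simp; rfl
      have a2 : (φ ∣_ N) ≫ Y.homOfLE (inf_le_right : N ≤ U y') =
          X.homOfLE (φ.preimage_mono inf_le_right) ≫ (φ ∣_ U y') := by
        rw [← cancel_mono (U y').ι]; simp; rfl
      rw [reassoc_of% a1, reassoc_of% a2, hχ, hχ]
      simp
    have hpb := isPullback_opens_inf (U y) (U y')
    rw [← cancel_epi hpb.isoPullback.hom, hpb.isoPullback_hom_fst_assoc, hpb.isoPullback_hom_snd_assoc]
    exact hN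
  have hfac : φ ≫ 𝒰.glueMorphisms χ hcompat = ψ := by
    refine Scheme.Cover.hom_ext (X.openCoverOfIsOpenCover (fun y => φ ⁻¹ᵁ U y)
      (eq_top_iff.2 fun x _ => TopologicalSpace.Opens.mem_iSup.2 ⟨φ x, hy (φ x)⟩)) _ _ fun y => ?_
    show (φ ⁻¹ᵁ U y).ι ≫ φ ≫ _ = (φ ⁻¹ᵁ U y).ι ≫ ψ
    rw [← morphismRestrict_ι_assoc, ← hχ y]
    congr 1
    exact Scheme.Cover.ι_glueMorphisms 𝒰 χ hcompat y
  exact ⟨_, hfac, fun χ' hχ' => hom_ext_top hs hinj (hχ'.trans hfac.symm)⟩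

end

end Groth.Agent.H60.GitQuot
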