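import Groth.Agent.H60.GitQuot.Cat

/-!
Geometric quotients are categorical quotients.
-/

set_option autoImplicit false

universe u

open CategoryTheory CategoryTheory.Limits MonoidalCategory CartesianMonoidalCategory MonObj AlgebraicGeometry

namespace Groth.Agent.H60.GitQuot

noncomputable section

variable {S : Scheme.{u}} {G X Y : Over S} [GrpObj G] {a : AlgGrp.Action G X} {φ : X ⟶ Y}

/-- The hypotheses of the criterion give a categorical quotient. -/
theorem isCatQuot (hi : GIT.IsInvariant a φ)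
    (hii : ∀ U : Y.left.Opens,
      Function.Injective (φ.left.app U) ∧ Set.range (φ.left.app U) = {f | GIT.IsInvSection a φ U f})
    (hclosed : ∀ W : Set X.left, IsClosed W → a.act.left.base '' ((snd G X).left.base ⁻¹' W) ⊆ W →
      IsClosed (φ.left.base '' W))
    (hinter : ∀ (J : Type u) (W : J → Set X.left),
      (∀ i, IsClosed (W i) ∧ a.act.left.base '' ((snd G X).left.base ⁻¹' W i) ⊆ W i) →
      φ.left.base '' (⋂ i, W i) = ⋂ i, φ.left.base '' W i) :
    GIT.IsCatQuot a φ := by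
  refine ⟨hi, fun Z ψ hψ => ?_⟩
  obtain ⟨χ, hχ, huniq⟩ := existsUnique_desc (σ := a.act.left) (p := (snd G X).left) (φ := φ.left)
    (fun U => (hii U).1) (fun U f hf => by rw [(hii U).2]; exact hf) hclosed hinter ψ.left (GIT.IsInvariant.left hψ)
  have hw : χ ≫ Z.hom = Y.hom :=
    hom_ext_top (surjective hinter) (fun U => (hii U).1)
      ((show φ.left ≫ χ ≫ Z.hom = X.hom by rw [← Category.assoc, hχ, Over.w]).trans (Over.w φ).symm)
  refine ⟨Over.homMk χ hw, Over.OverMorphism.ext hχ, fun χ' hχ' => Over.OverMorphism.ext ?_⟩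
  exact huniq χ'.left ((Over.comp_left (f := φ) (g := χ')).symm.trans (congrArg (fun f => Over.Hom.left f) hχ'))

theorem saturated (h : GIT.IsGeomQuot a φ) {W : Set X.left}
    (hW : a.act.left.base '' ((snd G X).left.base ⁻¹' W) ⊆ W) :
    φ.left.base ⁻¹' (φ.left.base '' W) = W := by
  refine Set.Subset.antisymm ?_ (Set.subset_preimage_image _ _)
  rintro x ⟨w, hw, hwx⟩
  obtain ⟨z, hz1, hz2⟩ := Scheme.Pullback.exists_preimage_pullback (f := φ.left) (g := φ.left) x w hwx.symm
  obtain ⟨q, hq⟩ := h.orbit z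
  refine hW ⟨q, ?_, ?_⟩
  · show (snd G X).left q ∈ W
    have : (GIT.PsiY a φ h.inv ≫ pullback.snd φ.left φ.left) q = (snd G X).left q := by
      rw [GIT.PsiY, pullback.lift_snd]
    rw [← this, Scheme.Hom.comp_apply]
    exact (congrArg _ hq).trans hz2 ▸ hw
  · show a.act.left q = x
    have : (GIT.PsiY a φ h.inv ≫ pullback.fst φ.left φ.left) q = a.act.left q := by
      rw [GIT.PsiY, pullback.lift_fst]
    rw [← this, Scheme.Hom.comp_apply]
    exact (congrArg _ hq).trans hz1

theorem closed_image (h : GIT.IsGeomQuot a φ) (W : Set X.left) (hW : IsClosed W)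
    (hWi : a.act.left.base '' ((snd G X).left.base ⁻¹' W) ⊆ W) : IsClosed (φ.left.base '' W) := by
  have hq : Topology.IsQuotientMap φ.left.base :=
    h.subm (𝟙 X.left) (𝟙 Y.left) φ.left (IsPullback.of_vert_isIso ⟨by simp⟩)
  rw [← hq.isClosed_preimage, saturated h hWi]
  exact hW

theorem inter_image (h : GIT.IsGeomQuot a φ) (J : Type u) (W : J → Set X.left)
    (hW : ∀ i, IsClosed (W i) ∧ a.act.left.base '' ((snd G X).left.base ⁻¹' W i) ⊆ W i) :
    φ.left.base '' (⋂ i, W i) = ⋂ i, φ.left.base '' W i := by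
  refine Set.Subset.antisymm (Set.image_iInter_subset _ _) fun y hy => ?_
  obtain ⟨x, rfl⟩ := h.surj y
  refine ⟨x, Set.mem_iInter.2 fun i => ?_, rfl⟩
  rw [← saturated h (hW i).2]
  exact Set.mem_iInter.1 hy i

theorem isCatQuot_of_isGeomQuot (h : GIT.IsGeomQuot a φ) : GIT.IsCatQuot a φ :=
  isCatQuot h.inv h.sections (closed_image h) (inter_image h)

theorem isUnivCatQuot_of_isUnivGeomQuot (h : GIT.IsUnivGeomQuot a φ) : GIT.IsUnivCatQuot a φ :=
  ⟨isCatQuot_of_isGeomQuot h.1, fun _ _ pr φ' g hg hpb a' ha' hinv =>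
    isCatQuot_of_isGeomQuot (h.2 pr φ' g hg hpb a' ha' hinv)⟩

/-- A section over a field has closed image. -/
theorem isClosed_range_section {K : Type u} [Field K] {Z T : Scheme.{u}} (i : T ≅ Spec (CommRingCat.of K))
    (p : Z ⟶ T) (s : T ⟶ Z) (hs : s ≫ p = 𝟙 T) : IsClosed (Set.range s.base) := by
  obtain ⟨t⟩ : Nonempty T := ⟨i.inv (default : PrimeSpectrum K)⟩
  haveI : Subsingleton T := by
    refine ⟨fun u v => ?_⟩
    have h : i.hom u = i.hom v := Subsingleton.elim (α := PrimeSpectrum K) _ _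
    simpa [← Scheme.Hom.comp_apply] using congrArg i.inv h
  have hr : Set.range s.base = {s t} :=
    Set.eq_singleton_iff_unique_mem.2 ⟨⟨t, rfl⟩, by rintro _ ⟨t', rfl⟩; exact congrArg s (Subsingleton.elim _ _)⟩
  rw [hr]
  -- a point which is closed in every affine open containing it is closed
  refine isClosed_of_closure_subset fun z hz => ?_
  obtain ⟨C, v, hv, ⟨c, rfl⟩, -⟩ :=
    AlgebraicGeometry.Scheme.exists_affine_mem_range_and_range_subset (U := (⊤ : Z.Opens)) (x := z) trivial
  haveI := hv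
  obtain ⟨_, ⟨c', rfl⟩, hc'⟩ := mem_closure_iff.1 hz _ v.isOpenEmbedding.isOpen_range ⟨c, rfl⟩
  have hc'' : v c' = s t := hc'
  let s' : Spec (CommRingCat.of K) ⟶ Spec C := IsOpenImmersion.lift v (i.inv ≫ s) (by
    rintro _ ⟨w, rfl⟩
    exact ⟨c', hc''.trans (congrArg s (Subsingleton.elim t (i.inv w)))⟩)
  have hs' : s' ≫ (v ≫ p ≫ i.hom) = 𝟙 _ := by
    simp [s', reassoc_of% hs]
  haveI : IsClosedImmersion (s' ≫ v ≫ p ≫ i.hom) := by rw [hs']; infer_instance
  haveI : IsClosedImmersion s' := IsClosedImmersion.of_comp s' (v ≫ p ≫ i.hom)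
  have hcl : IsClosed (Set.range s'.base) := s'.isClosedEmbedding.isClosed_range
  have hrg : Set.range s'.base = {c'} := by
    refine Set.eq_singleton_iff_unique_mem.2 ⟨⟨default, ?_⟩, ?_⟩
    · refine v.isOpenEmbedding.injective ?_
      rw [← Scheme.Hom.comp_apply, IsOpenImmersion.lift_fac]
      exact (congrArg s (Subsingleton.elim _ t)).trans hc''.symm
    · rintro _ ⟨w, rfl⟩
      refine v.isOpenEmbedding.injective ?_
      rw [← Scheme.Hom.comp_apply, IsOpenImmersion.lift_fac]
      exact (congrArg s (Subsingleton.elim _ t)).trans hc''.symm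
  have : c ∈ closure ({c'} : Set (Spec C)) := by
    rw [v.isOpenEmbedding.isInducing.closure_eq_preimage_closure_image, Set.image_singleton]
    show v c ∈ closure {v c'}
    rw [hc'']
    exact hz
  rw [← hrg, hcl.closure_eq, hrg] at this
  rw [Set.mem_singleton_iff.1 this]
  exact hc''

theorem isClosedAction_of_isGeomQuot (h : GIT.IsGeomQuot a φ) : GIT.IsClosedAction a := by
  intro Ω _ _ T i f
  let y : T ⟶ Y ⊗ T := lift (f ≫ φ) (𝟙 T)
  have hy : IsClosed (Set.range y.left.base) :=
    isClosed_range_section i (snd Y T).left y.left (congrArg (fun m => Over.Hom.left m) (lift_snd _ _))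
  have e : GIT.psi a f ≫ (φ ▷ T) = snd G T ≫ y := by
    rw [GIT.psi, lift_whiskerRight, Category.assoc, h.inv, whiskerLeft_snd_assoc]
    simp only [y, comp_lift, Category.comp_id]
  suffices hr : Set.range (GIT.psi a f).left.base = (φ ▷ T).left.base ⁻¹' Set.range y.left.base by
    rw [hr]
    exact hy.preimage (φ ▷ T).left.continuous
  refine Set.Subset.antisymm ?_ ?_
  · rintro _ ⟨w, rfl⟩
    exact ⟨(snd G T).left w, by
      rw [← Scheme.Hom.comp_apply, ← Scheme.Hom.comp_apply, ← Over.comp_left, ← Over.comp_left, e]⟩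
  · rintro z ⟨t, ht⟩
    obtain ⟨u, hu1, hu2⟩ := Scheme.Pullback.exists_preimage_pullback (f := (φ ▷ T).left) (g := y.left) z t ht.symm
    let P : Over S := Over.mk (pullback.fst (φ ▷ T).left y.left ≫ (X ⊗ T).hom)
    let p₁ : P ⟶ X ⊗ T := Over.homMk (pullback.fst (φ ▷ T).left y.left) rfl
    let p₂ : P ⟶ T := Over.homMk (pullback.snd (φ ▷ T).left y.left) (by
      show pullback.snd _ _ ≫ T.hom = pullback.fst _ _ ≫ (X ⊗ T).hom
      rw [← Over.w (φ ▷ T), pullback.condition_assoc, Over.w])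
    have c : p₁ ≫ (φ ▷ T) = p₂ ≫ y := Over.OverMorphism.ext pullback.condition
    have c1 : p₁ ≫ fst X T ≫ φ = p₂ ≫ f ≫ φ := by
      simpa [y] using congrArg (fun m => m ≫ fst Y T) c
    have c2 : p₁ ≫ snd X T = p₂ := by
      simpa [y] using congrArg (fun m => m ≫ snd Y T) c
    let m : P.left ⟶ pullback φ.left φ.left := pullback.lift (p₁ ≫ fst X T).left (p₂ ≫ f).left (by
      rw [← Over.comp_left, ← Over.comp_left, Category.assoc, c1, Category.assoc])
    obtain ⟨w, hw⟩ := h.orbit (m u)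
    obtain ⟨q, hq1, hq2⟩ := Scheme.Pullback.exists_preimage_pullback (f := GIT.PsiY a φ h.inv) (g := m) w u hw
    let Q : Over S := Over.mk (pullback.snd (GIT.PsiY a φ h.inv) m ≫ P.hom)
    let q₂ : Q ⟶ P := Over.homMk (pullback.snd (GIT.PsiY a φ h.inv) m) rfl
    let q₁l := pullback.fst (GIT.PsiY a φ h.inv) m
    have r1 : q₁l ≫ a.act.left = q₂.left ≫ (p₁ ≫ fst X T).left := by
      have := congrArg (fun t => t ≫ pullback.fst φ.left φ.left)
        (pullback.condition (f := GIT.PsiY a φ h.inv) (g := m))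
      rw [Category.assoc, Category.assoc, show GIT.PsiY a φ h.inv ≫ pullback.fst φ.left φ.left = a.act.left from
        pullback.lift_fst _ _ _, show m ≫ pullback.fst φ.left φ.left = (p₁ ≫ fst X T).left from
        pullback.lift_fst _ _ _] at this
      exact this
    have r2 : q₁l ≫ (snd G X).left = q₂.left ≫ (p₂ ≫ f).left := by
      have := congrArg (fun t => t ≫ pullback.snd φ.left φ.left)
        (pullback.condition (f := GIT.PsiY a φ h.inv) (g := m))
      rw [Category.assoc, Category.assoc, show GIT.PsiY a φ h.inv ≫ pullback.snd φ.left φ.left = (snd G X).left from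
        pullback.lift_snd _ _ _, show m ≫ pullback.snd φ.left φ.left = (p₂ ≫ f).left from
        pullback.lift_snd _ _ _] at this
      exact this
    let q₁ : Q ⟶ G ⊗ X := Over.homMk q₁l (by
      show q₁l ≫ (G ⊗ X).hom = q₂.left ≫ P.hom
      rw [← Over.w a.act, ← Category.assoc, r1, Category.assoc, Over.w])
    have e1 : q₁ ≫ a.act = q₂ ≫ p₁ ≫ fst X T := Over.OverMorphism.ext r1
    have e2 : q₁ ≫ snd G X = q₂ ≫ p₂ ≫ f := Over.OverMorphism.ext r2
    have e3 : lift (q₁ ≫ fst G X) (q₂ ≫ p₂) ≫ GIT.psi a f = q₂ ≫ p₁ := by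
      rw [GIT.psi, comp_lift, lift_whiskerLeft_assoc, lift_snd, Category.assoc, ← e2, lift_comp_fst_snd, e1, ← c2,
        ← comp_lift, ← comp_lift, lift_fst_snd, Category.comp_id]
    refine ⟨(lift (q₁ ≫ fst G X) (q₂ ≫ p₂)).left q, ?_⟩
    rw [← Scheme.Hom.comp_apply, ← Over.comp_left, e3, Over.comp_left, Scheme.Hom.comp_apply]
    show (pullback.fst (φ ▷ T).left y.left) ((pullback.snd (GIT.PsiY a φ h.inv) m) q) = z
    rw [hq2, hu1]

end

end Groth.Agent.H60.GitQuot
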