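import Groth.Agent.H60.GitQuot.Geom
import Mathlib.AlgebraicGeometry.Limits
import Mathlib.AlgebraicGeometry.ResidueField
import Mathlib.RingTheory.Polynomial.Basic

/-!
Universal categorical quotients are surjective with the invariant functions.
-/

set_option autoImplicit false

universe u

open CategoryTheory CategoryTheory.Limits MonoidalCategory CartesianMonoidalCategory MonObj AlgebraicGeometry

namespace Groth.Agent.H60.GitQuot

noncomputable section

variable {S : Scheme.{u}} {G X Y : Over S} [GrpObj G] {a : AlgGrp.Action G X} {φ : X ⟶ Y}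

section Action

variable {X' Y' : Over S} {pr : X' ⟶ X} {φ' : X' ⟶ Y'} {g : Y' ⟶ Y}

theorem comm_act (hi : GIT.IsInvariant a φ) (hpb : IsPullback pr φ' φ g) :
    ((G ◁ pr) ≫ a.act) ≫ φ = (snd G X' ≫ φ') ≫ g := by
  rw [Category.assoc, hi, whiskerLeft_snd_assoc, Category.assoc, hpb.w]

/-- The action on a base change. -/
def bcAction (hi : GIT.IsInvariant a φ) (hpb : IsPullback pr φ' φ g) : AlgGrp.Action G X' where
  act := hpb.lift _ _ (comm_act hi hpb)
  one_act := by
    refine hpb.hom_ext ?_ ?_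
    · rw [Category.assoc, hpb.lift_fst, ← Category.assoc, ← whisker_exchange, Category.assoc, a.one_act,
        leftUnitor_hom, leftUnitor_hom, whiskerLeft_snd]
    · rw [Category.assoc, hpb.lift_snd, whiskerRight_snd_assoc, leftUnitor_hom]
  mul_act := by
    refine hpb.hom_ext ?_ ?_
    · simp only [Category.assoc, hpb.lift_fst]
      rw [← Category.assoc (μ[G] ▷ X'), ← whisker_exchange, Category.assoc, a.mul_act]
      conv_rhs => rw [← MonoidalCategory.whiskerLeft_comp_assoc, hpb.lift_fst, MonoidalCategory.whiskerLeft_comp_assoc]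
      rw [associator_naturality_right_assoc]
    · simp only [Category.assoc, hpb.lift_snd, whiskerRight_snd_assoc]
      rw [whiskerLeft_snd_assoc, hpb.lift_snd, ← Category.assoc, ← Category.assoc]
      congr 1
      simp

theorem bcAction_pr (hi : GIT.IsInvariant a φ) (hpb : IsPullback pr φ' φ g) :
    (bcAction hi hpb).act ≫ pr = (G ◁ pr) ≫ a.act := hpb.lift_fst _ _ (comm_act hi hpb)

theorem bcAction_invariant (hi : GIT.IsInvariant a φ) (hpb : IsPullback pr φ' φ g) :
    GIT.IsInvariant (bcAction hi hpb) φ' := hpb.lift_snd _ _ (comm_act hi hpb)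

theorem univCatQuot_baseChange (h : GIT.IsUnivCatQuot a φ) (hpb : IsPullback pr φ' φ g) (a' : AlgGrp.Action G X')
    (ha' : a'.act ≫ pr = (G ◁ pr) ≫ a.act) (hinv : GIT.IsInvariant a' φ') : GIT.IsUnivCatQuot a' φ' := by
  refine ⟨h.2 pr φ' g trivial hpb a' ha' hinv, ?_⟩
  intro X'' Y'' pr' φ'' g' _ hpb' a'' ha'' hinv''
  refine h.2 (pr' ≫ pr) φ'' (g' ≫ g) trivial (hpb'.paste_horiz hpb) a'' ?_ hinv''
  rw [reassoc_of% ha'', ha', MonoidalCategory.whiskerLeft_comp, Category.assoc]

theorem orbit_baseChange (hi : GIT.IsInvariant a φ) (ho : Function.Surjective (GIT.PsiY a φ hi).base)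
    (hpb : IsPullback pr.left φ'.left φ.left g.left) (a' : AlgGrp.Action G X')
    (ha' : a'.act ≫ pr = (G ◁ pr) ≫ a.act) (hinv : GIT.IsInvariant a' φ') :
    Function.Surjective (GIT.PsiY a' φ' hinv).base := by
  intro z
  let m : pullback φ'.left φ'.left ⟶ pullback φ.left φ.left :=
    pullback.map _ _ _ _ pr.left pr.left g.left hpb.w.symm hpb.w.symm
  obtain ⟨w, hw⟩ := ho (m z)
  obtain ⟨q, hq1, hq2⟩ := Scheme.Pullback.exists_preimage_pullback (f := GIT.PsiY a φ hi) (g := m) w z hw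
  let Q : Over S := Over.mk (pullback.fst (GIT.PsiY a φ hi) m ≫ (G ⊗ X).hom)
  let u : Q ⟶ G ⊗ X := Over.homMk (pullback.fst (GIT.PsiY a φ hi) m) rfl
  let z₂ := pullback.snd (GIT.PsiY a φ hi) m
  have c1 : z₂ ≫ pullback.fst φ'.left φ'.left ≫ pr.left = u.left ≫ a.act.left := by
    have := congrArg (fun t => t ≫ pullback.fst φ.left φ.left)
      (pullback.condition (f := GIT.PsiY a φ hi) (g := m))
    rw [Category.assoc, Category.assoc, show GIT.PsiY a φ hi ≫ pullback.fst _ _ = a.act.left from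
        pullback.lift_fst _ _ _, show m ≫ pullback.fst _ _ = pullback.fst φ'.left φ'.left ≫ pr.left from
        pullback.lift_fst _ _ _] at this
    exact this.symm
  have c2 : z₂ ≫ pullback.snd φ'.left φ'.left ≫ pr.left = u.left ≫ (snd G X).left := by
    have := congrArg (fun t => t ≫ pullback.snd φ.left φ.left)
      (pullback.condition (f := GIT.PsiY a φ hi) (g := m))
    rw [Category.assoc, Category.assoc, show GIT.PsiY a φ hi ≫ pullback.snd _ _ =
        (snd G X).left from pullback.lift_snd _ _ _, show m ≫ pullback.snd _ _ =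
        pullback.snd φ'.left φ'.left ≫ pr.left from pullback.lift_snd _ _ _] at this
    exact this.symm
  let x : Q ⟶ X' := Over.homMk (z₂ ≫ pullback.snd φ'.left φ'.left) (by
    show (z₂ ≫ pullback.snd φ'.left φ'.left) ≫ X'.hom = _
    rw [← Over.w pr, Category.assoc, reassoc_of% c2, Over.w]
    rfl)
  let c : Q ⟶ G ⊗ X' := lift (u ≫ fst G X) x
  have hx : x ≫ pr = u ≫ snd G X := Over.OverMorphism.ext ((Category.assoc _ _ _).trans c2)
  have e1 : c ≫ a'.act ≫ pr = u ≫ a.act := by
    simp only [c]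
    rw [ha', lift_whiskerLeft_assoc, hx, lift_comp_fst_snd]
  have e : c.left ≫ GIT.PsiY a' φ' hinv = z₂ := by
    refine pullback.hom_ext ?_ ?_
    · rw [Category.assoc, GIT.PsiY, pullback.lift_fst]
      refine hpb.hom_ext ?_ ?_
      · rw [Category.assoc, ← Over.comp_left, ← Over.comp_left, e1, Category.assoc, c1, Over.comp_left]
      · rw [Category.assoc, GIT.IsInvariant.left hinv, ← Category.assoc, ← Over.comp_left, lift_snd, Category.assoc,
          pullback.condition]
        exact Category.assoc _ _ _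
    · rw [Category.assoc, GIT.PsiY, pullback.lift_snd, ← Over.comp_left, lift_snd]
      rfl
  refine ⟨c.left q, ?_⟩
  rw [← Scheme.Hom.comp_apply, e, hq2]

end Action

section Line

/-- The affine line over the integers. -/
abbrev Line : Scheme.{u} := Spec (CommRingCat.of (Polynomial (ULift.{u} ℤ)))

variable (S) in
/-- The affine line over the base. -/
def LineS : Over S := Over.mk (prod.snd : Line.{u} ⨯ S ⟶ S)

/-- A morphism to the affine line over the base. -/
def toLineS {W : Over S} (χ : W.left ⟶ Line.{u}) : W ⟶ LineS S :=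
  Over.homMk (prod.lift χ W.hom) (prod.lift_snd _ _)

theorem toLineS_injective {W : Over S} : Function.Injective (toLineS (W := W)) := fun χ χ' h => by
  have := congrArg (fun m => Over.Hom.left m ≫ (prod.fst : Line.{u} ⨯ S ⟶ _)) h
  exact (prod.lift_fst χ W.hom).symm.trans (this.trans (prod.lift_fst χ' W.hom))

theorem comp_toLineS {W W' : Over S} (f : W' ⟶ W) (χ : W.left ⟶ Line.{u}) :
    f ≫ toLineS χ = toLineS (f.left ≫ χ) :=
  Over.OverMorphism.ext (prod.hom_ext
    ((Category.assoc _ _ _).trans ((congrArg (f.left ≫ ·) (prod.lift_fst χ W.hom)).trans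
      (prod.lift_fst (f.left ≫ χ) W'.hom).symm))
    ((Category.assoc _ _ _).trans ((congrArg (f.left ≫ ·) (prod.lift_snd χ W.hom)).trans
      ((Over.w f).trans (prod.lift_snd (f.left ≫ χ) W'.hom).symm))))

theorem eq_toLineS {W : Over S} (ψ : W ⟶ LineS S) :
    toLineS (ψ.left ≫ (prod.fst : Line.{u} ⨯ S ⟶ _)) = ψ :=
  Over.OverMorphism.ext (prod.hom_ext (prod.lift_fst (ψ.left ≫ prod.fst) W.hom)
    ((prod.lift_snd (ψ.left ≫ prod.fst) W.hom).trans (Over.w ψ).symm))

/-- The coordinate of the affine line. -/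
def coord : Γ(Line.{u}, ⊤) := (Scheme.ΓSpecIso (CommRingCat.of (Polynomial (ULift.{u} ℤ)))).inv Polynomial.X

/-- The coordinate of a morphism to the line. -/
def coordOf {W : Scheme.{u}} (χ : W ⟶ Line.{u}) : Γ(W, ⊤) := χ.appTop coord

theorem coordOf_injective {W : Scheme.{u}} : Function.Injective (coordOf : (W ⟶ Line.{u}) → _) := fun χ χ' h => by
  refine ext_of_isAffine ?_
  rw [← cancel_epi (Scheme.ΓSpecIso (CommRingCat.of (Polynomial (ULift.{u} ℤ)))).inv]
  refine CommRingCat.hom_ext (Polynomial.ringHom_ext (fun a => ?_) h)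
  obtain ⟨n, rfl⟩ : ∃ n : ℤ, (n : ULift.{u} ℤ) = a := ⟨a.down, by ext; simp⟩
  rw [map_intCast, map_intCast, map_intCast]

theorem coordOf_comp {W W' : Scheme.{u}} (f : W' ⟶ W) (χ : W ⟶ Line.{u}) :
    coordOf (f ≫ χ) = f.appTop (coordOf χ) := rfl

theorem exists_coordOf {W : Scheme.{u}} (s : Γ(W, ⊤)) : ∃ χ : W ⟶ Line.{u}, coordOf χ = s := by
  refine ⟨W.toSpecΓ ≫ Spec.map (CommRingCat.ofHom
    (Polynomial.eval₂RingHom ((Int.castRingHom _).comp ULift.ringEquiv.toRingHom) s)), ?_⟩
  have h : (Spec.map (CommRingCat.ofHom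
      (Polynomial.eval₂RingHom ((Int.castRingHom _).comp ULift.ringEquiv.toRingHom) s))).appTop coord =
      (Scheme.ΓSpecIso Γ(W, ⊤)).inv s := by
    rw [coord]
    erw [← CommRingCat.comp_apply, ← Scheme.ΓSpecIso_inv_naturality, CommRingCat.comp_apply]
    simp
    rfl
  rw [coordOf_comp, coordOf, h, Scheme.toSpecΓ_appTop, ← CommRingCat.comp_apply, Iso.inv_hom_id]
  rfl

end Line

theorem surjective_of_isUnivCatQuot (h : GIT.IsUnivCatQuot a φ) : Function.Surjective φ.left.base := fun y => by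
  by_contra hy
  let Y' : Over S := Over.mk (Y.left.fromSpecResidueField y ≫ Y.hom)
  let g : Y' ⟶ Y := Over.homMk (Y.left.fromSpecResidueField y) rfl
  let X' : Over S := Over.mk (pullback.fst φ.left g.left ≫ X.hom)
  let pr : X' ⟶ X := Over.homMk (pullback.fst φ.left g.left) rfl
  let φ' : X' ⟶ Y' := Over.homMk (pullback.snd φ.left g.left) (by
    show pullback.snd φ.left g.left ≫ Y.left.fromSpecResidueField y ≫ Y.hom = pullback.fst φ.left g.left ≫ X.hom
    rw [← Over.w φ, pullback.condition_assoc]; rfl)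
  have hpb : IsPullback pr φ' φ g :=
    IsPullback.of_map (Over.forget S) (Over.OverMorphism.ext pullback.condition) (IsPullback.of_hasPullback _ _)
  haveI : IsEmpty X'.left := ⟨fun z => hy ⟨pr.left z, by
    show φ.left (pr.left z) = y
    rw [← Scheme.Hom.comp_apply, show pr.left ≫ φ.left = φ'.left ≫ g.left from pullback.condition,
      Scheme.Hom.comp_apply]
    exact Y.left.fromSpecResidueField_apply _ _⟩⟩
  have hc := h.2 pr φ' g trivial hpb (bcAction h.1.1 hpb) (bcAction_pr _ hpb) (bcAction_invariant _ hpb)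
  have hZ : ∀ (Z : Over S) (u v : X' ⟶ Z), u = v := fun Z u v =>
    Over.OverMorphism.ext ((isInitialOfIsEmpty (X := X'.left)).hom_ext _ _)
  obtain ⟨χ₀, h₀⟩ := exists_coordOf (0 : Γ(Y'.left, ⊤))
  obtain ⟨χ₁, h₁⟩ := exists_coordOf (1 : Γ(Y'.left, ⊤))
  have hz : toLineS χ₀ = toLineS χ₁ := by
    refine (hc.2 (LineS S) (φ' ≫ toLineS χ₀) ?_).unique rfl (hZ _ _ _)
    show _ = _
    rw [reassoc_of% (show (bcAction h.1.1 hpb).act ≫ φ' = snd G X' ≫ φ' from bcAction_invariant _ hpb)]
  haveI : Nontrivial Γ(Y'.left, ⊤) :=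
    (Scheme.ΓSpecIso (Y.left.residueField y)).commRingCatIsoToRingEquiv.toEquiv.nontrivial
  exact zero_ne_one (h₀.symm.trans ((congrArg coordOf (toLineS_injective hz)).trans h₁))

theorem sections_of_isUnivCatQuot (h : GIT.IsUnivCatQuot a φ) (U : Y.left.Opens) :
    Function.Injective (φ.left.app U) ∧ Set.range (φ.left.app U) = {f | GIT.IsInvSection a φ U f} := by
  let V := φ.left ⁻¹ᵁ U
  let Y' : Over S := Over.mk (U.ι ≫ Y.hom)
  let X' : Over S := Over.mk (V.ι ≫ X.hom)
  let g : Y' ⟶ Y := Over.homMk U.ι rfl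
  let pr : X' ⟶ X := Over.homMk V.ι rfl
  let φ' : X' ⟶ Y' := Over.homMk (φ.left ∣_ U) (by
    show (φ.left ∣_ U) ≫ U.ι ≫ Y.hom = V.ι ≫ X.hom
    rw [morphismRestrict_ι_assoc, Over.w])
  have hpb : IsPullback pr φ' φ g :=
    IsPullback.of_map (Over.forget S) (Over.OverMorphism.ext (morphismRestrict_ι φ.left U).symm)
      (isPullback_morphismRestrict φ.left U).flip
  set a' := bcAction h.1.1 hpb with ha'
  have hc := h.2 pr φ' g trivial hpb a' (bcAction_pr _ hpb) (bcAction_invariant _ hpb)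
  have hinv : a'.act ≫ φ' = snd G X' ≫ φ' := bcAction_invariant _ hpb
  have hres : ∀ s, (φ.left ∣_ U).appTop (res U s) = res V (φ.left.app U s) := fun s => by
    rw [appTop_res φ.left _ (morphismRestrict_ι φ.left U) le_rfl, ← φ.left.app_eq_appLE]
  refine ⟨fun s t hst => ?_, Set.Subset.antisymm ?_ fun f hf => ?_⟩
  · obtain ⟨χ, hχ⟩ := exists_coordOf (res U s)
    obtain ⟨χ', hχ'⟩ := exists_coordOf (res U t)
    have hz : toLineS (W := Y') χ = toLineS χ' := by
      refine (hc.2 (LineS S) (φ' ≫ toLineS χ) ?_).unique rfl ?_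
      · show _ = _
        rw [reassoc_of% hinv]
      · rw [comp_toLineS, comp_toLineS]
        congr 1
        refine coordOf_injective ?_
        rw [coordOf_comp, coordOf_comp, hχ, hχ']
        exact (hres t).trans ((congrArg (res V) hst.symm).trans (hres s).symm)
    refine (res_bijective U).1 ?_
    rw [← hχ, ← hχ', toLineS_injective hz]
  · rintro _ ⟨s, rfl⟩
    show GIT.IsInvSection a φ U _
    rw [GIT.IsInvSection, φ.left.app_eq_appLE, ← CommRingCat.comp_apply, ← CommRingCat.comp_apply,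
      Scheme.Hom.appLE_comp_appLE, Scheme.Hom.appLE_comp_appLE,
      appLE_congr (GIT.IsInvariant.left h.1.1) U _ _ (by
        intro x hx
        exact hx.2)]
  · obtain ⟨ψ, hψ⟩ := exists_coordOf (res V f)
    have hσ : a'.act.left ≫ V.ι = (G ◁ pr).left ≫ a.act.left :=
      congrArg (fun m => Over.Hom.left m) (bcAction_pr h.1.1 hpb)
    have hsnd : (snd G X').left ≫ V.ι = (G ◁ pr).left ≫ (snd G X).left :=
      congrArg (fun m => Over.Hom.left m) (whiskerLeft_snd (X := G) pr).symm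
    have hW : (⊤ : (G ⊗ X').left.Opens) ≤ (G ◁ pr).left ⁻¹ᵁ (a.act.left ⁻¹ᵁ V ⊓ (snd G X).left ⁻¹ᵁ V) := by
      intro x _
      refine ⟨?_, ?_⟩
      · show a.act.left ((G ◁ pr).left x) ∈ V
        rw [← Scheme.Hom.comp_apply, ← hσ, Scheme.Hom.comp_apply]
        exact (a'.act.left x).2
      · show (snd G X).left ((G ◁ pr).left x) ∈ V
        rw [← Scheme.Hom.comp_apply, ← hsnd, Scheme.Hom.comp_apply]
        exact ((snd G X').left x).2
    have hpull : ∀ (q : (G ⊗ X').left ⟶ V.toScheme) (r : (G ⊗ X).left ⟶ X.left)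
        (_ : q ≫ V.ι = (G ◁ pr).left ≫ r) (hr : a.act.left ⁻¹ᵁ V ⊓ (snd G X).left ⁻¹ᵁ V ≤ r ⁻¹ᵁ V),
        q.appTop (res V f) = (G ◁ pr).left.appLE _ ⊤ hW (r.appLE V _ hr f) := by
      intro q r hqr hr
      rw [res, ← CommRingCat.comp_apply, ← CommRingCat.comp_apply,
        show q.appTop = q.appLE ⊤ ⊤ le_rfl from q.app_eq_appLE,
        Scheme.Hom.appLE_comp_appLE, Scheme.Hom.appLE_comp_appLE]
      exact RingHom.congr_fun (congrArg CommRingCat.Hom.hom (appLE_congr hqr V ⊤ _ _)) f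
    have hinvψ : GIT.IsInvariant a' (toLineS (W := X') ψ) := by
      show _ = _
      rw [comp_toLineS, comp_toLineS]
      congr 1
      refine coordOf_injective ?_
      rw [coordOf_comp, coordOf_comp, hψ]
      exact (hpull _ _ hσ inf_le_left).trans ((congrArg _ hf).trans (hpull _ _ hsnd inf_le_right).symm)
    obtain ⟨χ, hχ, -⟩ := hc.2 (LineS S) _ hinvψ
    rw [← eq_toLineS χ, comp_toLineS] at hχ
    obtain ⟨s, hs⟩ := (res_bijective U).2 (coordOf (χ.left ≫ (prod.fst : Line.{u} ⨯ S ⟶ _)))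
    refine ⟨s, (res_bijective V).1 ?_⟩
    rw [← hres, hs, ← hψ, ← toLineS_injective hχ]
    rfl

theorem isUnivGeomQuot_iff (h : GIT.IsUnivCatQuot a φ) :
    GIT.IsUnivGeomQuot a φ ↔ GIT.IsUnivSubmersive φ.left ∧ Function.Surjective (GIT.PsiY a φ h.1.1).base := by
  refine ⟨fun hg => ⟨hg.1.subm, hg.1.orbit⟩, fun ⟨hsub, ho⟩ => ⟨⟨h.1.1, surjective_of_isUnivCatQuot h, ho, hsub,
    sections_of_isUnivCatQuot h⟩, ?_⟩⟩
  intro X' Y' pr φ' g _ hpb a' ha' hinv
  have hb := univCatQuot_baseChange h hpb a' ha' hinv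
  refine ⟨hinv, surjective_of_isUnivCatQuot hb, orbit_baseChange h.1.1 ho (hpb.map (Over.forget S)) a' ha' hinv, ?_,
    sections_of_isUnivCatQuot hb⟩
  intro X'' Y'' i₁ i₂ f'' hpb''
  exact hsub (i₁ ≫ pr.left) (i₂ ≫ g.left) f'' (hpb''.flip.paste_horiz (hpb.map (Over.forget S))).flip

end

end Groth.Agent.H60.GitQuot
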