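import Groth.Prelude.Def_W4c6nonredquotmfGoodQuot
import Groth.Agent.H60.GitQuot.Univ
import Groth.Agent.Lib.GrpSch.OrbitDim

/-!
Good quotients: restriction to opens, orbit closures, closed orbits in fibres.
-/

set_option autoImplicit false

universe u

open CategoryTheory CategoryTheory.Limits MonoidalCategory CartesianMonoidalCategory MonObj AlgebraicGeometry
open Groth.Agent.Lib

namespace Groth.Agent.H60.GitQuot.Good

noncomputable section

section Restrict

variable {S : Scheme.{u}} {G X Y : Over S} [GrpObj G] {a : AlgGrp.Action G X} {φ : X ⟶ Y}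

theorem restrict (h : NRQuot.IsGoodQuot a φ) {V : X.left.Opens} (U : Y.left.Opens) (hV : V = φ.left ⁻¹ᵁ U)
    (aU : AlgGrp.Action G (Over.mk (V.ι ≫ X.hom))) (jU : Over.mk (V.ι ≫ X.hom) ⟶ X) (hjU : jU.left = V.ι)
    (haU : aU.act ≫ jU = (G ◁ jU) ≫ a.act) (φU : Over.mk (V.ι ≫ X.hom) ⟶ Over.mk (U.ι ≫ Y.hom))
    (hφU : φU.left ≫ U.ι = V.ι ≫ φ.left) : NRQuot.IsGoodQuot aU φU := by
  subst hV
  let V := φ.left ⁻¹ᵁ U
  obtain ⟨w, rfl⟩ : ∃ w, φU = Over.homMk (φ.left ∣_ U) w := by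
    have e : φU.left = φ.left ∣_ U := by
      rw [← cancel_mono U.ι]
      exact hφU.trans (morphismRestrict_ι φ.left U).symm
    exact ⟨by rw [← e]; exact Over.w φU, Over.OverMorphism.ext e⟩
  obtain rfl : jU = Over.homMk V.ι rfl := Over.OverMorphism.ext hjU
  set jU : Over.mk (V.ι ≫ X.hom) ⟶ X := Over.homMk V.ι rfl with hjU'
  set φU : Over.mk (V.ι ≫ X.hom) ⟶ Over.mk (U.ι ≫ Y.hom) := Over.homMk (φ.left ∣_ U) w with hφU''
  have hφU' : φU.left = φ.left ∣_ U := rfl
  haveI := h.affine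
  have haff : IsAffineHom φU.left := by
    rw [hφU']
    exact MorphismProperty.of_isPullback (P := @IsAffineHom) (isPullback_morphismRestrict φ.left U).flip h.affine
  have hact : aU.act.left ≫ V.ι = (G ◁ jU).left ≫ a.act.left := by
    exact congrArg (fun m => Over.Hom.left m) haU
  have hsnd : (snd G _).left ≫ V.ι = (G ◁ jU).left ≫ (snd G X).left := by
    exact congrArg (fun m => Over.Hom.left m) (whiskerLeft_snd (X := G) jU).symm
  have hinv : GIT.IsInvariant aU φU := by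
    refine Over.OverMorphism.ext ?_
    show aU.act.left ≫ φU.left = (snd G _).left ≫ φU.left
    rw [← cancel_mono U.ι, Category.assoc, Category.assoc, hφU, reassoc_of% hact, reassoc_of% hsnd,
      GIT.IsInvariant.left h.inv]
  -- a stable closed subset of the open extends to one of the whole space
  have hext : ∀ W : Set V.toScheme, IsClosed W → NRQuot.IsInvariantSet aU W →
      IsClosed (V.ι.base '' W ∪ (V : Set X.left)ᶜ) ∧ NRQuot.IsInvariantSet a (V.ι.base '' W ∪ (V : Set X.left)ᶜ) := by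
    intro W hW hWi
    refine ⟨?_, fun p hp => ?_⟩
    · have e : (V.ι.base '' W ∪ (V : Set X.left)ᶜ)ᶜ = V.ι.base '' Wᶜ := by
        ext x
        constructor
        · intro hx
          rw [Set.compl_union, compl_compl] at hx
          exact ⟨⟨x, hx.2⟩, fun hw => hx.1 ⟨_, hw, rfl⟩, rfl⟩
        · rintro ⟨x, hx, rfl⟩ (⟨x', hx', hxx'⟩ | hx')
          · exact hx (V.ι.isOpenEmbedding.injective hxx' ▸ hx')
          · exact hx' x.2
      rw [← isOpen_compl_iff, e]
      exact V.ι.isOpenEmbedding.isOpenMap _ hW.isOpen_compl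
    · have hVi : a.act.left p ∈ (V : Set X.left) ↔ (snd G X).left p ∈ (V : Set X.left) := by
        show φ.left (a.act.left p) ∈ U ↔ φ.left ((snd G X).left p) ∈ U
        rw [← Scheme.Hom.comp_apply, GIT.IsInvariant.left h.inv, Scheme.Hom.comp_apply]
      rcases hp with ⟨w, hw, hwp⟩ | hp
      · obtain ⟨q, hq1, hq2⟩ := Scheme.exists_preimage_of_isPullback (GrpSch.isPullback_whiskerLeft G jU) p w
          hwp.symm
        refine Or.inl ⟨aU.act.left q, hWi q (by rw [hq2]; exact hw), ?_⟩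
        rw [← Scheme.Hom.comp_apply, hact, Scheme.Hom.comp_apply, hq1]
      · exact Or.inr fun hc => hp (hVi.1 hc)
  have himg : ∀ W : Set V.toScheme,
      φU.left.base '' W = U.ι.base ⁻¹' (φ.left.base '' (V.ι.base '' W ∪ (V : Set X.left)ᶜ)) := by
    intro W
    have hpt : ∀ w, U.ι (φU.left w) = φ.left (V.ι w) := fun w => by
      rw [← Scheme.Hom.comp_apply, hφU, Scheme.Hom.comp_apply]
    ext y
    constructor
    · rintro ⟨w, hw, rfl⟩
      exact ⟨V.ι w, Or.inl ⟨w, hw, rfl⟩, (hpt w).symm⟩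
    · rintro ⟨x, ⟨w, hw, rfl⟩ | hx, hxy⟩
      · exact ⟨w, hw, U.ι.isOpenEmbedding.injective ((hpt w).trans hxy)⟩
      · exact absurd (show φ.left x ∈ U from hxy ▸ y.2) hx
  refine ⟨haff, hinv, ?_, ?_, ?_⟩
  · intro O
    show Function.Injective ((φ.left ∣_ U).app O) ∧
      Set.range ((φ.left ∣_ U).app O) = {f | GIT.IsInvSection aU φU O f}
    let O' : Y.left.Opens := U.ι ''ᵁ O
    have hO' : O' ≤ U := U.ι_image_le O
    have heO : U.ι ⁻¹ᵁ O' = O := U.ι.preimage_image_eq O
    let W := φ.left ⁻¹ᵁ O'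
    have hW : (φ.left ∣_ U) ⁻¹ᵁ O ≤ V.ι ⁻¹ᵁ W := fun x hx => by
      show φ.left (V.ι x) ∈ O'
      rw [← Scheme.Hom.comp_apply, ← morphismRestrict_ι, Scheme.Hom.comp_apply]
      exact ⟨_, hx, rfl⟩
    have hρO : Function.Bijective (U.ι.appLE O' O heO.ge) := by
      have e : U.ι.appLE O' O heO.ge = U.ι.app O' ≫ U.toScheme.presheaf.map (eqToHom heO.symm).op := rfl
      haveI : IsIso (U.ι.app O') := by
        refine Scheme.Hom.isIso_app U.ι O' ?_
        rw [U.opensRange_ι]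
        exact hO'
      rw [e]
      exact ConcreteCategory.bijective_of_isIso _
    have hρV : Function.Bijective (V.ι.appLE W ((φ.left ∣_ U) ⁻¹ᵁ O) hW) := by
      have hge : V.ι ⁻¹ᵁ W ≤ (φ.left ∣_ U) ⁻¹ᵁ O := fun x hx => by
        obtain ⟨o, ho, hox⟩ := (show φ.left (V.ι x) ∈ O' from hx)
        show (φ.left ∣_ U) x ∈ O
        have : (φ.left ∣_ U) x = o := U.ι.isOpenEmbedding.injective (by
          rw [← Scheme.Hom.comp_apply, morphismRestrict_ι, Scheme.Hom.comp_apply]
          exact hox.symm)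
        rw [this]; exact ho
      have heq : (φ.left ∣_ U) ⁻¹ᵁ O = V.ι ⁻¹ᵁ W := le_antisymm hW hge
      have e : V.ι.appLE W _ hW = V.ι.app W ≫ V.toScheme.presheaf.map (eqToHom heq).op := rfl
      haveI : IsIso (V.ι.app W) := by
        refine Scheme.Hom.isIso_app V.ι W ?_
        rw [V.opensRange_ι]
        exact φ.left.preimage_mono hO'
      rw [e]
      exact ConcreteCategory.bijective_of_isIso _
    have hnat : ∀ s, (φ.left ∣_ U).app O (U.ι.appLE O' O heO.ge s) =
        V.ι.appLE W ((φ.left ∣_ U) ⁻¹ᵁ O) hW (φ.left.app O' s) := fun s => by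
      rw [(φ.left ∣_ U).app_eq_appLE, φ.left.app_eq_appLE, ← CommRingCat.comp_apply, ← CommRingCat.comp_apply,
        Scheme.Hom.appLE_comp_appLE, Scheme.Hom.appLE_comp_appLE]
      exact RingHom.congr_fun (congrArg CommRingCat.Hom.hom (appLE_congr (morphismRestrict_ι φ.left U) O' _ _ _)) s
    refine ⟨fun s t hst => ?_, Set.Subset.antisymm ?_ fun f hf => ?_⟩
    · obtain ⟨s, rfl⟩ := hρO.2 s
      obtain ⟨t, rfl⟩ := hρO.2 t
      rw [hnat, hnat] at hst
      exact congrArg _ ((h.sections O').1 (hρV.1 hst))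
    · rintro _ ⟨s, rfl⟩
      show GIT.IsInvSection aU φU O _
      rw [GIT.IsInvSection]
      change aU.act.left.appLE ((φ.left ∣_ U) ⁻¹ᵁ O) _ _ ((φ.left ∣_ U).app O s) =
        (snd G _).left.appLE ((φ.left ∣_ U) ⁻¹ᵁ O) _ _ ((φ.left ∣_ U).app O s)
      rw [(φ.left ∣_ U).app_eq_appLE, ← CommRingCat.comp_apply, ← CommRingCat.comp_apply, Scheme.Hom.appLE_comp_appLE,
        Scheme.Hom.appLE_comp_appLE]
      exact RingHom.congr_fun (congrArg CommRingCat.Hom.hom (appLE_congr (show aU.act.left ≫ (φ.left ∣_ U) = (snd G _).left ≫ (φ.left ∣_ U) from GIT.IsInvariant.left hinv) O _ _ _)) s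
    · obtain ⟨f, rfl⟩ := hρV.2 f
      suffices hf' : GIT.IsInvSection a φ O' f by
        obtain ⟨s, rfl⟩ := (h.sections O').2.symm.subset hf'
        exact ⟨_, hnat s⟩
      let i := (G ◁ jU).left
      haveI : IsOpenImmersion i :=
        GrpSch.whiskerLeft_left_of (P := @IsOpenImmersion) G jU (inferInstanceAs (IsOpenImmersion V.ι))
      let B := a.act.left ⁻¹ᵁ W ⊓ (snd G X).left ⁻¹ᵁ W
      have hB : B ≤ i.opensRange := fun p hp => by
        have hp2 : φ.left ((snd G X).left p) ∈ U := hO' hp.2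
        obtain ⟨q, hq1, -⟩ := Scheme.exists_preimage_of_isPullback (GrpSch.isPullback_whiskerLeft G jU) p
          (⟨(snd G X).left p, hp2⟩ : V) rfl
        exact ⟨q, hq1⟩
      haveI : IsIso (i.app B) := Scheme.Hom.isIso_app i B hB
      refine (ConcreteCategory.bijective_of_isIso (i.app B)).1 ?_
      let W₁ := φU.left ⁻¹ᵁ O
      have hW₁ : W₁ ≤ V.ι ⁻¹ᵁ W := by rw [show W₁ = (φ.left ∣_ U) ⁻¹ᵁ O by simp only [W₁, hφU']]; exact hW
      have hiB : i ⁻¹ᵁ B ≤ aU.act.left ⁻¹ᵁ W₁ ⊓ (snd G _).left ⁻¹ᵁ W₁ := by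
        intro q hq
        have h1 : φ.left (a.act.left (i q)) ∈ O' := hq.1
        have h2 : φ.left ((snd G X).left (i q)) ∈ O' := hq.2
        rw [← Scheme.Hom.comp_apply i a.act.left, ← hact, Scheme.Hom.comp_apply] at h1
        rw [← Scheme.Hom.comp_apply i (snd G X).left, ← hsnd, Scheme.Hom.comp_apply] at h2
        have key : ∀ v : V.toScheme, φ.left (V.ι v) ∈ O' → φU.left v ∈ O := fun v hv => by
          obtain ⟨o, ho, hov⟩ := hv
          have : φU.left v = o := U.ι.isOpenEmbedding.injective (by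
            rw [← Scheme.Hom.comp_apply, hφU, Scheme.Hom.comp_apply]
            exact hov.symm)
          rw [this]; exact ho
        exact ⟨key _ h1, key _ h2⟩
      have hpull : ∀ (r' : (G ⊗ Over.mk (V.ι ≫ X.hom)).left ⟶ V.toScheme) (r : (G ⊗ X).left ⟶ X.left)
          (_ : r' ≫ V.ι = i ≫ r) (hr : B ≤ r ⁻¹ᵁ W) (hr' : i ⁻¹ᵁ B ≤ r' ⁻¹ᵁ W₁),
          i.app B (r.appLE W B hr f) = r'.appLE W₁ (i ⁻¹ᵁ B) hr' (V.ι.appLE W W₁ hW₁ f) := by
        intro r' r hrr hr hr'
        rw [i.app_eq_appLE, ← CommRingCat.comp_apply, ← CommRingCat.comp_apply, Scheme.Hom.appLE_comp_appLE,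
          Scheme.Hom.appLE_comp_appLE]
        exact RingHom.congr_fun (congrArg CommRingCat.Hom.hom (appLE_congr hrr.symm W _ _ _)) f
      rw [hpull aU.act.left _ hact inf_le_left (hiB.trans inf_le_left),
        hpull _ _ hsnd inf_le_right (hiB.trans inf_le_right)]
      have key : ∀ (r' : (G ⊗ Over.mk (V.ι ≫ X.hom)).left ⟶ V.toScheme) (C : (G ⊗ Over.mk (V.ι ≫ X.hom)).left.Opens)
          (hC : C ≤ r' ⁻¹ᵁ W₁) (hle : i ⁻¹ᵁ B ≤ C) (g : Γ(V.toScheme, W₁)),
          r'.appLE W₁ (i ⁻¹ᵁ B) (hle.trans hC) g =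
            (G ⊗ Over.mk (V.ι ≫ X.hom)).left.presheaf.map (homOfLE hle).op (r'.appLE W₁ C hC g) := fun r' C hC hle g =>
        (RingHom.congr_fun (congrArg CommRingCat.Hom.hom (r'.appLE_map hC (homOfLE hle).op)) g).symm
      rw [key aU.act.left _ inf_le_left hiB, key (snd G _).left _ inf_le_right hiB]
      exact congrArg _ (show GIT.IsInvSection aU φU O _ from hf)
  · intro W hW hWi
    rw [himg W]
    exact (h.closed _ (hext W hW hWi).1 (hext W hW hWi).2).preimage U.ι.continuous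
  · intro J W hW hWi
    show φU.left.base '' _ = ⋂ i, φU.left.base '' W i
    rw [himg, Set.iInter_congr fun i => himg (W i), ← Set.preimage_iInter]
    rw [← h.inter J _ (fun i => (hext (W i) (hW i) (hWi i)).1) fun i => (hext (W i) (hW i) (hWi i)).2]
    refine congrArg (fun Z => U.ι.base ⁻¹' (φ.left.base '' Z)) (Set.ext fun x => ?_)
    simp only [Set.mem_iInter, Set.mem_union]
    constructor
    · rintro (⟨w, hw, rfl⟩ | hx) i
      · exact Or.inl ⟨w, Set.mem_iInter.1 hw i, rfl⟩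
      · exact Or.inr hx
    · intro hx
      by_cases hxV : x ∈ (V : Set X.left)
      · refine Or.inl ⟨⟨x, hxV⟩, Set.mem_iInter.2 fun i => ?_, rfl⟩
        obtain ⟨w, hw, hwx⟩ | h' := hx i
        · rwa [show (⟨x, hxV⟩ : V) = w from Subtype.ext hwx.symm]
        · exact absurd hxV h'
      · exact Or.inr hxV

end Restrict

end

end Groth.Agent.H60.GitQuot.Good
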