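import Groth.Agent.H60.GitQuot.Good

/-!
Orbit closures and closed orbits in the fibres of good quotients.
-/

set_option autoImplicit false

universe u

open CategoryTheory CategoryTheory.Limits MonoidalCategory CartesianMonoidalCategory MonObj AlgebraicGeometry
open Groth.Agent.Lib

namespace Groth.Agent.H60.GitQuot.Good

noncomputable section

variable {k : Type u} [Field k]

local notation "𝟭k" => 𝟙_ (Over (Spec (CommRingCat.of k)))

/-- The point of the spectrum of a field. -/
def pt0 : (𝟭k).left := (default : PrimeSpectrum k)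

instance : Subsingleton (𝟭k).left := inferInstanceAs (Subsingleton (PrimeSpectrum k))

theorem range_point {X : Over (Spec (CommRingCat.of k))} (x : 𝟭k ⟶ X) :
    Set.range x.left.base = {x.left pt0} :=
  Set.eq_singleton_iff_unique_mem.2
    ⟨⟨pt0, rfl⟩, by rintro _ ⟨t, rfl⟩; exact congrArg x.left (Subsingleton.elim _ _)⟩

/-- Rational points with the same image are equal. -/
theorem point_ext {X : Over (Spec (CommRingCat.of k))} {x y : 𝟭k ⟶ X} (h : x.left pt0 = y.left pt0) : x = y := by
  obtain ⟨C, v, hv, ⟨c, hc⟩, -⟩ :=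
    AlgebraicGeometry.Scheme.exists_affine_mem_range_and_range_subset (U := (⊤ : X.left.Opens)) (x := x.left pt0)
      trivial
  haveI := hv
  have hsub : ∀ z : 𝟭k ⟶ X, z.left pt0 = x.left pt0 → Set.range z.left.base ⊆ Set.range v.base := fun z hz => by
    rw [range_point, hz]
    exact Set.singleton_subset_iff.2 ⟨c, hc⟩
  let l : ∀ z : 𝟭k ⟶ X, z.left pt0 = x.left pt0 → (Spec (CommRingCat.of k) ⟶ Spec C) :=
    fun z hz => IsOpenImmersion.lift v z.left (hsub z hz)
  obtain ⟨f, hf⟩ : ∃ f, Spec.map f = l x rfl := ⟨_, Spec.map_preimage _⟩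
  obtain ⟨g, hg⟩ : ∃ g, Spec.map g = l y h.symm := ⟨_, Spec.map_preimage _⟩
  obtain ⟨s, hs⟩ : ∃ s, Spec.map s = v ≫ X.hom := ⟨_, Spec.map_preimage _⟩
  have hsec : ∀ (z : 𝟭k ⟶ X) (hz : z.left pt0 = x.left pt0) (q : C ⟶ CommRingCat.of k), Spec.map q = l z hz →
      ∀ r : k, q (s r) = r := by
    intro z hz q hq r
    have e : Spec.map q ≫ Spec.map s = 𝟙 _ := by
      rw [hq, hs, ← Category.assoc, IsOpenImmersion.lift_fac]
      exact Over.w z
    rw [← Spec.map_comp, ← Spec.map_id] at e
    exact congrArg (fun m => m.hom r) (Spec.map_injective e)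
  have hker : RingHom.ker f.hom = RingHom.ker g.hom := by
    have e : Spec.map f pt0 = Spec.map g pt0 := by
      refine v.isOpenEmbedding.injective ?_
      rw [hf, hg, ← Scheme.Hom.comp_apply, ← Scheme.Hom.comp_apply, IsOpenImmersion.lift_fac,
        IsOpenImmersion.lift_fac]
      exact h
    have e' := congrArg PrimeSpectrum.asIdeal e
    have hp : (pt0 (k := k) : PrimeSpectrum k).asIdeal = ⊥ :=
      (Ideal.eq_bot_or_top _).resolve_right (pt0 (k := k) : PrimeSpectrum k).isPrime.ne_top
    have hk : ∀ q : C ⟶ CommRingCat.of k,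
        (Spec.map q pt0).asIdeal = RingHom.ker q.hom := fun q => by
      show Ideal.comap q.hom (pt0 (k := k) : PrimeSpectrum k).asIdeal = _
      rw [hp]
      rfl
    exact (hk f).symm.trans (e'.trans (hk g))
  have hfg : f = g := by
    refine CommRingCat.hom_ext (RingHom.ext fun r => ?_)
    have hmem : r - s (g r) ∈ RingHom.ker g.hom := by
      rw [RingHom.mem_ker, map_sub, hsec y h.symm g hg, sub_self]
    rw [← hker, RingHom.mem_ker, map_sub, hsec x rfl f hf, sub_eq_zero] at hmem
    exact hmem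
  refine Over.OverMorphism.ext ?_
  rw [← IsOpenImmersion.lift_fac v x.left (hsub x rfl), ← IsOpenImmersion.lift_fac v y.left (hsub y h.symm)]
  congr 1
  exact (hf.symm.trans (congrArg Spec.map hfg)).trans hg

theorem isClosed_range_point {X : Over (Spec (CommRingCat.of k))} (x : 𝟭k ⟶ X) : IsClosed (Set.range x.left.base) :=
  isClosed_range_section (K := k) (Iso.refl _) X.hom x.left (Over.w x)

variable {G X Y : Over (Spec (CommRingCat.of k))} [GrpObj G] {a : AlgGrp.Action G X} {φ : X ⟶ Y}

theorem image_orbit_subset (h : NRQuot.IsGoodQuot a φ) (x : 𝟭k ⟶ X) :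
    φ.left.base '' closure (Set.range (a.orbitMap x).left.base) ⊆ {(x ≫ φ).left pt0} := by
  refine (image_closure_subset_closure_image φ.left.continuous).trans ?_
  have hsub : φ.left.base '' Set.range (a.orbitMap x).left.base ⊆ {(x ≫ φ).left pt0} := by
    rintro _ ⟨_, ⟨g, rfl⟩, rfl⟩
    have e : a.orbitMap x ≫ φ = toUnit G ≫ x ≫ φ := by
      rw [AlgGrp.Action.orbitMap, Category.assoc, h.inv, lift_snd_assoc, Category.assoc]
    show φ.left ((a.orbitMap x).left g) = _
    rw [← Scheme.Hom.comp_apply, ← Over.comp_left, e, Over.comp_left, Scheme.Hom.comp_apply]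
    exact congrArg (x ≫ φ).left (Subsingleton.elim _ _)
  refine (closure_mono hsub).trans ?_
  have hcl : IsClosed ({(x ≫ φ).left pt0} : Set Y.left) := by
    rw [← range_point]
    exact isClosed_range_point _
  exact hcl.closure_eq.le

theorem mem_closure_orbit (x : 𝟭k ⟶ X) : x.left pt0 ∈ closure (Set.range (a.orbitMap x).left.base) :=
  subset_closure (GrpSch.range_subset_range_orbit a x ⟨pt0, rfl⟩)

theorem closures_meet_iff [LocallyOfFiniteType G.hom] (h : NRQuot.IsGoodQuot a φ) (x₁ x₂ : 𝟭k ⟶ X) :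
    (closure (Set.range (a.orbitMap x₁).left.base) ∩ closure (Set.range (a.orbitMap x₂).left.base)).Nonempty ↔
      x₁ ≫ φ = x₂ ≫ φ := by
  constructor
  · rintro ⟨z, hz₁, hz₂⟩
    exact point_ext ((image_orbit_subset h x₁ ⟨z, hz₁, rfl⟩).symm.trans (image_orbit_subset h x₂ ⟨z, hz₂, rfl⟩))
  · intro hx
    let W : ULift.{u} Bool → Set X.left := fun i =>
      bif i.down then closure (Set.range (a.orbitMap x₁).left.base) else closure (Set.range (a.orbitMap x₂).left.base)
    have hi : ∀ x : 𝟭k ⟶ X, NRQuot.IsInvariantSet a (closure (Set.range (a.orbitMap x).left.base)) := fun x =>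
      (GrpSch.isStableSet_iff a _).1 ((GrpSch.isStableSet_range_orbit a x).closure a)
    have hint := h.inter _ W (fun ⟨i⟩ => by cases i <;> exact isClosed_closure)
      (fun ⟨i⟩ => by cases i <;> exact hi _)
    obtain ⟨z, hz, -⟩ : (x₁ ≫ φ).left pt0 ∈ φ.left.base '' ⋂ i, W i := by
      rw [hint, Set.mem_iInter]
      rintro ⟨i⟩
      cases i
      · refine ⟨x₂.left pt0, mem_closure_orbit x₂, ?_⟩
        rw [hx]
        rfl
      · exact ⟨x₁.left pt0, mem_closure_orbit x₁, rfl⟩
    exact ⟨z, Set.mem_iInter.1 hz ⟨true⟩, Set.mem_iInter.1 hz ⟨false⟩⟩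

theorem exists_of_mem_orbit [IsAlgClosed k] [LocallyOfFiniteType G.hom] [QuasiCompact G.hom] {x x' : 𝟭k ⟶ X}
    (h : x'.left pt0 ∈ Set.range (a.orbitMap x).left.base) : ∃ g : 𝟭k ⟶ G, lift g x ≫ a.act = x' := by
  have hcl : IsClosed ((a.orbitMap x).left.base ⁻¹' {x'.left pt0}) := by
    refine IsClosed.preimage (a.orbitMap x).left.continuous ?_
    rw [← range_point]
    exact isClosed_range_point x'
  obtain ⟨g, hg⟩ := GrpSch.exists_point_mem hcl (by obtain ⟨q, hq⟩ := h; exact ⟨q, hq⟩)
  refine ⟨g, point_ext ?_⟩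
  have e : lift g x ≫ a.act = g ≫ a.orbitMap x := by
    rw [AlgGrp.Action.orbitMap, comp_lift_assoc, Category.comp_id,
      show g ≫ toUnit G ≫ x = x by rw [← Category.assoc, toUnit_unique (g ≫ toUnit G) (𝟙 _), Category.id_comp]]
  rw [e, Over.comp_left, Scheme.Hom.comp_apply]
  exact hg ⟨pt0, rfl⟩

theorem exists_closed_orbit [IsAlgClosed k] [IsAffine G.left] [LocallyOfFiniteType G.hom] [LocallyOfFiniteType X.hom]
    (h : NRQuot.IsGoodQuot a φ) (y : 𝟭k ⟶ Y) :
    ∃ x : 𝟭k ⟶ X, x ≫ φ = y ∧ IsClosed (Set.range (a.orbitMap x).left.base) ∧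
      ∀ x' : 𝟭k ⟶ X, x' ≫ φ = y → IsClosed (Set.range (a.orbitMap x').left.base) →
        ∃ g : 𝟭k ⟶ G, lift g x ≫ a.act = x' := by
  haveI : QuasiCompact G.hom := by
    haveI : IsAffineHom G.hom := inferInstance
    infer_instance
  haveI : Subsingleton (Spec (CommRingCat.of k)) := inferInstanceAs (Subsingleton (PrimeSpectrum k))
  haveI := h.affine
  let F : Over (Spec (CommRingCat.of k)) := Over.mk (pullback.snd φ.left y.left ≫ (𝟭k).hom)
  let pr : F ⟶ X := Over.homMk (pullback.fst φ.left y.left) (by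
    show pullback.fst φ.left y.left ≫ X.hom = pullback.snd φ.left y.left ≫ (𝟭k).hom
    rw [← Over.w φ, pullback.condition_assoc, Over.w])
  let φF : F ⟶ 𝟭k := Over.homMk (pullback.snd φ.left y.left) rfl
  have hpb : IsPullback pr φF φ y :=
    IsPullback.of_map (Over.forget _) (Over.OverMorphism.ext pullback.condition) (IsPullback.of_hasPullback _ _)
  haveI : IsImmersion (y.left ≫ Y.hom) := by
    rw [Over.w y]; exact inferInstanceAs (IsImmersion (𝟙 _))
  haveI : IsImmersion y.left := IsImmersion.of_comp y.left Y.hom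
  haveI : IsClosedImmersion y.left := IsClosedImmersion.of_isPreimmersion _ (isClosed_range_point y)
  haveI : IsClosedImmersion pr.left := inferInstanceAs (IsClosedImmersion (pullback.fst φ.left y.left))
  haveI : LocallyOfFiniteType F.hom := by rw [← Over.w pr]; infer_instance
  haveI : QuasiCompact F.hom := by
    haveI : IsAffineHom (pullback.snd φ.left y.left) := inferInstance
    show QuasiCompact (pullback.snd φ.left y.left ≫ (𝟭k).hom)
    haveI : QuasiCompact (𝟭k).hom := inferInstanceAs (QuasiCompact (𝟙 _))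
    infer_instance
  have hsurj : Function.Surjective φ.left.base := surjective (σ := a.act.left) (p := (snd G X).left) fun J W hW =>
    h.inter J W (fun i => (hW i).1) fun i p hp => (hW i).2 ⟨p, hp, rfl⟩
  haveI : Nonempty F.left := by
    obtain ⟨x₀, hx₀⟩ := hsurj (y.left pt0)
    obtain ⟨z, -⟩ := Scheme.Pullback.exists_preimage_pullback (f := φ.left) (g := y.left) x₀ pt0 hx₀
    exact ⟨z⟩
  obtain ⟨z, hz⟩ := GrpSch.exists_isClosed_range_orbit (bcAction h.inv hpb)
  refine ⟨z ≫ pr, ?_, ?_, fun x' hx' hcl' => ?_⟩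
  · rw [Category.assoc, hpb.w, ← Category.assoc, toUnit_unique (z ≫ φF) (𝟙 _), Category.id_comp]
  · have e : a.orbitMap (z ≫ pr) = (bcAction h.inv hpb).orbitMap z ≫ pr := by
      rw [AlgGrp.Action.orbitMap, AlgGrp.Action.orbitMap, Category.assoc, bcAction_pr, lift_whiskerLeft_assoc,
        Category.assoc]
    rw [e, Over.comp_left, Scheme.Hom.comp_base, TopCat.coe_comp, Set.range_comp]
    exact pr.left.isClosedEmbedding.isClosedMap _ hz
  · have hcl : IsClosed (Set.range (a.orbitMap (z ≫ pr)).left.base) := by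
      have e : a.orbitMap (z ≫ pr) = (bcAction h.inv hpb).orbitMap z ≫ pr := by
        rw [AlgGrp.Action.orbitMap, AlgGrp.Action.orbitMap, Category.assoc, bcAction_pr, lift_whiskerLeft_assoc,
          Category.assoc]
      rw [e, Over.comp_left, Scheme.Hom.comp_base, TopCat.coe_comp, Set.range_comp]
      exact pr.left.isClosedEmbedding.isClosedMap _ hz
    have hφx : (z ≫ pr) ≫ φ = x' ≫ φ := by
      rw [hx', Category.assoc, hpb.w, ← Category.assoc, toUnit_unique (z ≫ φF) (𝟙 _), Category.id_comp]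
    obtain ⟨w, hw₁, hw₂⟩ := (closures_meet_iff h (z ≫ pr) x').2 hφx
    rw [hcl.closure_eq] at hw₁
    rw [hcl'.closure_eq] at hw₂
    have hsub := GrpSch.orbit_subset_sat a x' hw₂
    have hin : x'.left pt0 ∈ Set.range (a.orbitMap (z ≫ pr)).left.base :=
      GrpSch.sat_subset_of_stable a (Set.singleton_subset_iff.2 hw₁) (GrpSch.isStableSet_range_orbit a _)
        (hsub (GrpSch.range_subset_range_orbit a x' ⟨pt0, rfl⟩))
    exact exists_of_mem_orbit hin

end

end Groth.Agent.H60.GitQuot.Good
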