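import Groth.Agent.H60.GitQuot.Geom
import Groth.Agent.Lib.GrpSch.Basic
import Mathlib.AlgebraicGeometry.Morphisms.Separated
import Mathlib.AlgebraicGeometry.Morphisms.Immersion

/-!
Separatedness of a geometric quotient.
-/

set_option autoImplicit false

universe u

open CategoryTheory CategoryTheory.Limits MonoidalCategory CartesianMonoidalCategory MonObj AlgebraicGeometry
open Groth.Agent.Lib

namespace Groth.Agent.H60.GitQuot

noncomputable section

variable {S : Scheme.{u}} {G X Y : Over S} [GrpObj G] {a : AlgGrp.Action G X} {φ : X ⟶ Y}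

theorem range_psi_eq (h : GIT.IsGeomQuot a φ) :
    Set.range (GIT.psi a (𝟙 X)).left.base = (φ ⊗ₘ φ).left.base ⁻¹' Set.range (lift (𝟙 Y) (𝟙 Y)).left.base := by
  refine Set.Subset.antisymm ?_ ?_
  · rintro _ ⟨w, rfl⟩
    have e : GIT.psi a (𝟙 X) ≫ (φ ⊗ₘ φ) = (snd G X ≫ φ) ≫ lift (𝟙 Y) (𝟙 Y) := by
      rw [GIT.psi, lift_map, comp_lift, Category.comp_id, whiskerLeft_id, Category.id_comp, h.inv]
    exact ⟨(snd G X ≫ φ).left w, by
      rw [← Scheme.Hom.comp_apply, ← Scheme.Hom.comp_apply, ← Over.comp_left, ← Over.comp_left, e]⟩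
  · rintro z ⟨t, ht⟩
    obtain ⟨u, hu1, hu2⟩ := Scheme.Pullback.exists_preimage_pullback (f := (φ ⊗ₘ φ).left)
      (g := (lift (𝟙 Y) (𝟙 Y)).left) z t ht.symm
    let P : Over S := Over.mk (pullback.fst (φ ⊗ₘ φ).left (lift (𝟙 Y) (𝟙 Y)).left ≫ (X ⊗ X).hom)
    let p₁ : P ⟶ X ⊗ X := Over.homMk (pullback.fst (φ ⊗ₘ φ).left (lift (𝟙 Y) (𝟙 Y)).left) rfl
    let p₂ : P ⟶ Y := Over.homMk (pullback.snd (φ ⊗ₘ φ).left (lift (𝟙 Y) (𝟙 Y)).left) (by
      show pullback.snd _ _ ≫ Y.hom = pullback.fst _ _ ≫ (X ⊗ X).hom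
      rw [← Over.w (φ ⊗ₘ φ), pullback.condition_assoc, Over.w])
    have c : p₁ ≫ (φ ⊗ₘ φ) = p₂ ≫ lift (𝟙 Y) (𝟙 Y) := Over.OverMorphism.ext pullback.condition
    have c1 : p₁ ≫ fst X X ≫ φ = p₂ := by simpa using congrArg (fun m => m ≫ fst Y Y) c
    have c2 : p₁ ≫ snd X X ≫ φ = p₂ := by simpa using congrArg (fun m => m ≫ snd Y Y) c
    let m : P.left ⟶ pullback φ.left φ.left := pullback.lift (p₁ ≫ fst X X).left (p₁ ≫ snd X X).left (by
      rw [← Over.comp_left, ← Over.comp_left, Category.assoc, c1, Category.assoc, c2])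
    obtain ⟨w, hw⟩ := h.orbit (m u)
    obtain ⟨q, hq1, hq2⟩ := Scheme.Pullback.exists_preimage_pullback (f := GIT.PsiY a φ h.inv) (g := m) w u hw
    let q₂l := pullback.snd (GIT.PsiY a φ h.inv) m
    let q₁l := pullback.fst (GIT.PsiY a φ h.inv) m
    have r1 : q₁l ≫ a.act.left = q₂l ≫ (p₁ ≫ fst X X).left := by
      have := congrArg (fun t => t ≫ pullback.fst φ.left φ.left)
        (pullback.condition (f := GIT.PsiY a φ h.inv) (g := m))
      rw [Category.assoc, Category.assoc, show GIT.PsiY a φ h.inv ≫ pullback.fst φ.left φ.left = a.act.left from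
        pullback.lift_fst _ _ _, show m ≫ pullback.fst φ.left φ.left = (p₁ ≫ fst X X).left from
        pullback.lift_fst _ _ _] at this
      exact this
    have r2 : q₁l ≫ (snd G X).left = q₂l ≫ (p₁ ≫ snd X X).left := by
      have := congrArg (fun t => t ≫ pullback.snd φ.left φ.left)
        (pullback.condition (f := GIT.PsiY a φ h.inv) (g := m))
      rw [Category.assoc, Category.assoc, show GIT.PsiY a φ h.inv ≫ pullback.snd φ.left φ.left = (snd G X).left from
        pullback.lift_snd _ _ _, show m ≫ pullback.snd φ.left φ.left = (p₁ ≫ snd X X).left from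
        pullback.lift_snd _ _ _] at this
      exact this
    let Q : Over S := Over.mk (q₂l ≫ P.hom)
    let q₁ : Q ⟶ G ⊗ X := Over.homMk q₁l (by
      show q₁l ≫ (G ⊗ X).hom = q₂l ≫ P.hom
      rw [← Over.w a.act, ← Category.assoc, r1, Category.assoc, Over.w])
    let q₂ : Q ⟶ P := Over.homMk q₂l rfl
    have e : q₁ ≫ GIT.psi a (𝟙 X) = q₂ ≫ p₁ := by
      apply CartesianMonoidalCategory.hom_ext
      · rw [GIT.psi, Category.assoc, Category.assoc, lift_fst, whiskerLeft_id, Category.id_comp]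
        exact Over.OverMorphism.ext r1
      · rw [GIT.psi, Category.assoc, Category.assoc, lift_snd]
        exact Over.OverMorphism.ext r2
    refine ⟨q₁.left q, ?_⟩
    rw [← Scheme.Hom.comp_apply, ← Over.comp_left, e, Over.comp_left, Scheme.Hom.comp_apply]
    show p₁.left (q₂l q) = z
    rw [hq2]
    exact hu1

theorem isSeparated_iff (h : GIT.IsGeomQuot a φ) :
    IsSeparated Y.hom ↔ IsClosed (Set.range (GIT.psi a (𝟙 X)).left.base) := by
  have hd : (lift (𝟙 Y) (𝟙 Y)).left = pullback.diagonal Y.hom := by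
    refine pullback.hom_ext ?_ ?_
    · rw [pullback.diagonal_fst]
      exact congrArg (fun m => Over.Hom.left m) (lift_fst (𝟙 Y) (𝟙 Y))
    · rw [pullback.diagonal_snd]
      exact congrArg (fun m => Over.Hom.left m) (lift_snd (𝟙 Y) (𝟙 Y))
  have hq₁ : Topology.IsQuotientMap (φ ▷ X).left.base :=
    h.subm (fst X X).left (fst Y X).left (φ ▷ X).left (GrpSch.isPullback_whiskerRight φ X)
  have hq₂ : Topology.IsQuotientMap (Y ◁ φ).left.base :=
    h.subm (snd Y X).left (snd Y Y).left (Y ◁ φ).left (GrpSch.isPullback_whiskerLeft Y φ)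
  have hq : Topology.IsQuotientMap (φ ⊗ₘ φ).left.base := by
    rw [MonoidalCategory.tensorHom_def, Over.comp_left, Scheme.Hom.comp_base, TopCat.coe_comp]
    exact hq₂.comp hq₁
  rw [range_psi_eq h, hq.isClosed_preimage, hd]
  refine ⟨fun hs => (pullback.diagonal Y.hom).isClosedEmbedding.isClosed_range, fun hc => ⟨?_⟩⟩
  exact IsClosedImmersion.of_isPreimmersion _ hc

end

end Groth.Agent.H60.GitQuot
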