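import Groth.Agent.H60.GitQuot.GoodOrbit
import Groth.Agent.H60.AffQuot.Finite
import Groth.Agent.H60.AffQuot.Main
import Groth.Agent.H1.Classical.Unipotent
import Groth.Agent.H95.UnipClosed.Basic
import Groth.Agent.S5426
import Mathlib.RingTheory.RootsOfUnity.AlgebraicallyClosed

/-!
Orbits of groups without subtori on affine schemes are closed in characteristic zero.
-/

set_option autoImplicit false
set_option linter.style.haveILetI false

universe u

open CategoryTheory CategoryTheory.Limits MonoidalCategory CartesianMonoidalCategory MonObj GrpObj AlgebraicGeometry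
open CoactBr TensorProduct

namespace Groth.Agent.H60.GitQuot.Unip

noncomputable section

variable {k : Type u} [Field k]

local notation "𝟭k" => 𝟙_ (Over (Spec (CommRingCat.of k)))

open Groth.Agent.Lib.RedPts Groth.Agent.H1.Classical Groth.Agent.H1.Classical.Scheme' in
/-- A group without subtori is unipotent. -/
theorem isUnipotent_of_hasNoSubtorus [IsAlgClosed k] [CharZero k] {A : Type u} [CommRing A] [HopfAlgebra k A]
    [Algebra.FiniteType k A] {G : Over (Spec (CommRingCat.of k))} [GrpObj G] [IsAffine G.left] [Smooth G.hom]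
    [ConnectedSpace G.left] (e : G ≅ sp k A) [IsMonHom e.hom] (hG : Red.HasNoSubtorus k G) :
    HopfRep.IsUnipotent k A := by
  classical
  refine (Groth.Agent.S5426.result k A).2 fun n hn ⟨φ, hφ⟩ => ?_
  haveI : NeZero n := ⟨hn.ne_zero⟩
  haveI : NeZero ((n : ℕ) : k) := ⟨Nat.cast_ne_zero.2 hn.ne_zero⟩
  obtain ⟨z, hz⟩ := HasEnoughRootsOfUnity.exists_primitiveRoot k n
  let M := Multiplicative (ZMod n)
  let c : M →* k :=
    { toFun := fun m => z ^ (Multiplicative.toAdd m).val
      map_one' := by simp
      map_mul' := fun a b => by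
        rw [← pow_add, toAdd_mul, ZMod.val_add]
        exact (pow_eq_pow_mod _ hz.pow_eq_one).symm }
  let ζ : MonoidAlgebra k M →ₐ[k] k := MonoidAlgebra.lift k k M c
  let ev : WithConv (MonoidAlgebra k M →ₐ[k] k) → M → k := fun g m => g.ofConv (MonoidAlgebra.single m 1)
  have hev : ∀ (g g' : WithConv (MonoidAlgebra k M →ₐ[k] k)) (m : M), ev (g * g') m = ev g m * ev g' m := by
    intro g g' m
    simp [ev, AlgHom.convMul_apply]
  have hpow : ∀ (j : ℕ) (m : M), ev (WithConv.toConv ζ ^ j) m = c m ^ j := by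
    intro j
    induction j with
    | zero => intro m; simp [ev]
    | succ j ih =>
      intro m
      rw [pow_succ, hev, ih, pow_succ]
      congr 1
      simp [ev, ζ]
  have hn1 : WithConv.toConv ζ ^ n = 1 := by
    refine congrArg WithConv.toConv (MonoidAlgebra.algHom_ext (fun m => ?_) (Subsingleton.elim _ _) :
      (WithConv.toConv ζ ^ n).ofConv = (1 : WithConv (MonoidAlgebra k M →ₐ[k] k)).ofConv)
    change ev _ m = ev 1 m
    have h0 := hpow 0 m
    rw [pow_zero, pow_zero] at h0
    rw [hpow, h0]
    change (z ^ _) ^ n = 1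
    rw [← pow_mul, mul_comm, pow_mul, hz.pow_eq_one, one_pow]
  let χ : HopfPts.Pt k A := WithConv.toConv (ζ.comp (φ : A →ₐ[k] MonoidAlgebra k M))
  have hχ : χ ^ n = 1 := by
    have hd : ∀ j, (WithConv.toConv ((WithConv.toConv ζ ^ j).ofConv.comp (φ : A →ₐ[k] MonoidAlgebra k M)) :
        WithConv (A →ₐ[k] k)) = χ ^ j := by
      intro j
      induction j with
      | zero =>
        rw [pow_zero, pow_zero]
        refine congrArg WithConv.toConv (AlgHom.ext fun a => ?_)
        simp
      | succ j ih =>
        rw [pow_succ, pow_succ, ← ih]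
        exact congrArg WithConv.toConv
          (AlgHom.convMul_comp_bialgHom_distrib (WithConv.toConv ζ ^ j) (WithConv.toConv ζ) φ)
    rw [← hd, hn1]
    refine congrArg WithConv.toConv (AlgHom.ext fun a => ?_)
    simp
  haveI : IsMonHom e.inv := inferInstance
  let x : 𝟭k ⟶ GA k A := ptHom 𝟭k χ
  have hx : x ^ n = 1 := by rw [← map_pow, hχ, map_one]
  have h1 : (x ≫ e.inv) = 1 := Unipotent.noTorsion_of_hasNoSubtorus hG _ n (Nat.cast_ne_zero.2 hn.ne_zero) (by
    rw [← Unipotent.pow_comp, hx, MonObj.one_comp])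
  have hχ1 : χ = 1 := by
    refine ptHom_injective ?_
    rw [map_one]
    change x = 1
    rw [← cancel_mono e.inv, h1, MonObj.one_comp]
  obtain ⟨a, ha⟩ := hφ (MonoidAlgebra.single (Multiplicative.ofAdd (1 : ZMod n)) 1)
  have h2 := congrArg (fun g : HopfPts.Pt k A => g.ofConv a) hχ1
  have hl : χ.ofConv a = z := by
    change ζ (φ a) = z
    rw [ha]
    haveI : Fact (1 < n) := ⟨hn.one_lt⟩
    simp [ζ, c, ZMod.val_one]
  have hr : (1 : HopfPts.Pt k A).ofConv a = 1 := by
    have hc := CoalgHomClass.counit_comp φ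
    have hc' := LinearMap.congr_fun hc a
    simp only [LinearMap.comp_apply] at hc'
    simp only [AlgHom.convOne_apply, Algebra.algebraMap_self, RingHom.id_apply]
    rw [← hc']
    erw [ha]
    simp
  rw [hl, hr] at h2
  exact hz.ne_one hn.one_lt h2

variable {G X : Over (Spec (CommRingCat.of k))} [GrpObj G]
  {A : Type u} [CommRing A] [HopfAlgebra k A] (e : G ≅ sp k A) [IsMonHom e.hom]

include e in
/-- Orbits of a unipotent group on an affine scheme are closed. -/
theorem isClosed_range_orbit_affine [IsAlgClosed k] [IsAffine X.left] (hU : HopfRep.IsUnipotent k A)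
    (a : AlgGrp.Action G X) (x : 𝟭k ⟶ X) : IsClosed (Set.range (a.orbitMap x).left.base) := by
  obtain ⟨R, _, _, ⟨eX⟩⟩ := AffQuot.exists_iso_sp X
  letI := AffQuot.rComod e eX a
  haveI : GLin.IsCoactAlg k A R := ⟨map_one (AffQuot.rcoact e eX a), map_mul (AffQuot.rcoact e eX a)⟩
  haveI : IsMonHom e.inv := inferInstance
  let j : sp k k ⟶ 𝟭k := toUnit _
  obtain ⟨x₀, hx₀⟩ := AffQuot.exists_pt (B := R) (j ≫ x ≫ eX.hom)
  have hcl := H95.UnipClosed.isClosedOrbit (H := A) hU x₀
  let Φ := GLin.orbitHom k A x₀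
  have hΦ : AffQuot.xPt eX Φ = e.inv⁻¹ ≫ a.orbitMap x := by
    have e1 : Φ = ((Algebra.TensorProduct.lift ((Algebra.ofId k A).comp x₀) (AlgHom.id k A) fun _ _ => .all _ _)).comp
        (AffQuot.rcoact e eX a) := by
      refine AlgHom.ext fun r => ?_
      simp only [Φ, GLin.orbitHom, AlgHom.comp_apply, GLin.coactAlgHom_apply]
      change Algebra.TensorProduct.lid k A (Algebra.TensorProduct.map x₀ (AlgHom.id k A)
        (AffQuot.rcoact e eX a r)) = _
      generalize AffQuot.rcoact e eX a r = w
      induction w using TensorProduct.induction_on with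
      | zero => simp
      | add p q hp hq => simp only [map_add, hp, hq]
      | tmul p q => simp [Algebra.smul_def, Algebra.ofId_apply]
    rw [e1, ← AffQuot.pt_xPt, AffQuot.xPt_rcoact, comp_lift_assoc, GrpObj.comp_inv, AffQuot.pt_gPt,
      AffQuot.pt_xPt, Algebra.TensorProduct.lift_comp_includeLeft, Algebra.TensorProduct.lift_comp_includeRight']
    rw [show AffQuot.gPt e (AlgHom.id k A) = e.inv by rw [AffQuot.gPt, pt_id, Category.id_comp],
      AlgGrp.Action.orbitMap, comp_lift_assoc, Category.comp_id]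
    congr 2
    rw [AffQuot.xPt, pt_comp, hx₀]
    simp only [Category.assoc, Iso.hom_inv_id, Category.comp_id, j]
    rw [← Category.assoc, ← Category.assoc, toUnit_unique (pt _ ≫ toUnit _) (e.inv⁻¹ ≫ toUnit G)]
  haveI : IsIso (e.inv⁻¹ : sp k A ⟶ G) := by
    rw [Hom.inv_def]
    infer_instance
  haveI : IsIso (e.inv⁻¹ : sp k A ⟶ G).left := inferInstanceAs (IsIso ((Over.forget _).map (e.inv⁻¹)))
  have hrange : Set.range (a.orbitMap x).left.base =
      eX.inv.left.base '' Set.range (PrimeSpectrum.comap Φ.toRingHom) := by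
    have e2 : Set.range (a.orbitMap x).left.base = Set.range ((e.inv⁻¹ ≫ a.orbitMap x)).left.base := by
      rw [Over.comp_left, Scheme.Hom.comp_base, TopCat.coe_comp,
        Set.range_comp, Set.range_eq_univ.2 (show Function.Surjective (e.inv⁻¹ : sp k A ⟶ G).left.base from
          (e.inv⁻¹ : sp k A ⟶ G).left.homeomorph.surjective), Set.image_univ]
    rw [e2, ← hΦ, AffQuot.xPt, Over.comp_left, Scheme.Hom.comp_base, TopCat.coe_comp, Set.range_comp]
    rfl
  rw [hrange]
  exact eX.inv.left.homeomorph.isClosedMap _ hcl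

include e in
open Groth.Agent.H60.GitQuot.Good in
/-- Orbits of a unipotent group in a good quotient are closed. -/
theorem isClosed_range_orbit [IsAlgClosed k] {Y : Over (Spec (CommRingCat.of k))} {a : AlgGrp.Action G X}
    {φ : X ⟶ Y} (hU : HopfRep.IsUnipotent k A) (h : NRQuot.IsGoodQuot a φ) (x : 𝟭k ⟶ X) :
    IsClosed (Set.range (a.orbitMap x).left.base) := by
  haveI := h.affine
  let y := x ≫ φ
  let F : Over (Spec (CommRingCat.of k)) := Over.mk (pullback.snd φ.left y.left ≫ (𝟭k).hom)
  let pr : F ⟶ X := Over.homMk (pullback.fst φ.left y.left) (by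
    show pullback.fst φ.left y.left ≫ X.hom = pullback.snd φ.left y.left ≫ (𝟭k).hom
    rw [← Over.w φ, pullback.condition_assoc, Over.w])
  let φF : F ⟶ 𝟭k := Over.homMk (pullback.snd φ.left y.left) rfl
  have hpb : IsPullback pr φF φ y :=
    IsPullback.of_map (Over.forget _) (Over.OverMorphism.ext pullback.condition) (IsPullback.of_hasPullback _ _)
  haveI : IsImmersion (y.left ≫ Y.hom) := by
    rw [Over.w y]; exact inferInstanceAs (IsImmersion (𝟙 _))
  haveI : IsImmersion y.left := IsImmersion.of_comp y.left Y.hom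
  haveI : IsClosedImmersion y.left := IsClosedImmersion.of_isPreimmersion _ (isClosed_range_point y)
  haveI : IsClosedImmersion pr.left := inferInstanceAs (IsClosedImmersion (pullback.fst φ.left y.left))
  haveI : IsAffine (𝟭k).left := inferInstanceAs (IsAffine (Spec (CommRingCat.of k)))
  haveI : IsAffineHom (pullback.snd φ.left y.left) := inferInstance
  haveI : IsAffine F.left := isAffine_of_isAffineHom (pullback.snd φ.left y.left)
  let z : 𝟭k ⟶ F := hpb.lift x (𝟙 _) (Category.id_comp _).symm
  have hz : z ≫ pr = x := hpb.lift_fst _ _ _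
  have hc := isClosed_range_orbit_affine e hU (bcAction h.inv hpb) z
  have e1 : a.orbitMap (z ≫ pr) = (bcAction h.inv hpb).orbitMap z ≫ pr := by
    rw [AlgGrp.Action.orbitMap, AlgGrp.Action.orbitMap, Category.assoc, bcAction_pr, lift_whiskerLeft_assoc,
      Category.assoc]
  rw [← hz, e1, Over.comp_left, Scheme.Hom.comp_base, TopCat.coe_comp, Set.range_comp]
  exact pr.left.isClosedEmbedding.isClosedMap _ hc

end

end Groth.Agent.H60.GitQuot.Unip
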