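import Groth.Agent.H60.GitQuot.Univ
import Groth.Agent.Lib.GrpSch.Orbit

/-!
Geometric quotients by universally open groups are universally open.
-/

set_option autoImplicit false

universe u

open CategoryTheory CategoryTheory.Limits MonoidalCategory CartesianMonoidalCategory MonObj AlgebraicGeometry
open Groth.Agent.Lib

namespace Groth.Agent.H60.GitQuot

noncomputable section

variable {S : Scheme.{u}} {G X Y : Over S} [GrpObj G] {a : AlgGrp.Action G X} {φ : X ⟶ Y}

theorem universallyOpen_of_isGeomQuot [UniversallyOpen G.hom] (h : GIT.IsGeomQuot a φ) :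
    UniversallyOpen φ.left := by
  constructor
  intro X₁ Y₁ i₁ i₂ f hf
  let Y' : Over S := Over.mk (i₂ ≫ Y.hom)
  let g : Y' ⟶ Y := Over.homMk i₂ rfl
  let X' : Over S := Over.mk (i₁ ≫ X.hom)
  let pr : X' ⟶ X := Over.homMk i₁ rfl
  let φ' : X' ⟶ Y' := Over.homMk f (by
    show f ≫ i₂ ≫ Y.hom = i₁ ≫ X.hom
    rw [← Over.w φ, reassoc_of% hf.w])
  have hpbl : IsPullback pr.left φ'.left φ.left g.left := hf.flip
  have hpb : IsPullback pr φ' φ g :=
    IsPullback.of_map (Over.forget S) (Over.OverMorphism.ext hpbl.w) hpbl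
  let a' := bcAction h.inv hpb
  have hinv' : GIT.IsInvariant a' φ' := bcAction_invariant h.inv hpb
  have ho := orbit_baseChange h.inv h.orbit hpbl a' (bcAction_pr h.inv hpb) hinv'
  have hq : Topology.IsQuotientMap φ'.left.base := h.subm i₁ i₂ f hf
  intro W hW
  show IsOpen (φ'.left.base '' W)
  rw [← hq.isOpen_preimage]
  have e : φ'.left.base ⁻¹' (φ'.left.base '' W) = GrpSch.sat a' W := by
    refine Set.Subset.antisymm ?_ ?_
    · rintro x ⟨w, hw, hwx⟩
      obtain ⟨z, hz1, hz2⟩ := Scheme.Pullback.exists_preimage_pullback (f := φ'.left) (g := φ'.left) x w hwx.symm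
      obtain ⟨q, hq⟩ := ho z
      have hs : (GIT.PsiY a' φ' hinv' ≫ pullback.snd φ'.left φ'.left) q = (snd G X').left q := by
        rw [GIT.PsiY, pullback.lift_snd]
      have hfst : (GIT.PsiY a' φ' hinv' ≫ pullback.fst φ'.left φ'.left) q = a'.act.left q := by
        rw [GIT.PsiY, pullback.lift_fst]
      rw [Scheme.Hom.comp_apply] at hs hfst
      refine ⟨q, ?_, ?_⟩
      · show (snd G X').left q ∈ W
        rw [← hs]
        exact (congrArg _ hq).trans hz2 ▸ hw
      · rw [← hfst]
        exact (congrArg _ hq).trans hz1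
    · rintro _ ⟨q, hq, rfl⟩
      refine ⟨_, hq, ?_⟩
      show φ'.left ((snd G X').left q) = φ'.left (a'.act.left q)
      rw [← Scheme.Hom.comp_apply, ← Scheme.Hom.comp_apply, GIT.IsInvariant.left hinv']
  rw [e]
  exact GrpSch.isOpen_sat a' hW

end

end Groth.Agent.H60.GitQuot
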